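import Cfsg.Agent.SL2C.SumFormula
import Mathlib.LinearAlgebra.Matrix.GeneralLinearGroup.Defs
import Mathlib.Tactic.Module

/-!
GL₂ over a finite field: element types, the nonsplit torus and its conjugation.
-/

set_option autoImplicit false
set_option linter.unusedSectionVars false
set_option linter.style.haveILetI false

namespace CfsgLib.GL2C

open Matrix Finset
open scoped Classical
open CfsgLib.SL2C (IsScal NoEig)

/-- GL₂(F). -/
abbrev GL2 (F : Type*) [Field F] : Type _ := Matrix.GeneralLinearGroup (Fin 2) F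

variable {F : Type*} [Field F]

/-- The matrix of an element. -/
abbrev gm (g : GL2 F) : Matrix (Fin 2) (Fin 2) F := g.val

theorem gm_mul (g h : GL2 F) : gm (g * h) = gm g * gm h := rfl

theorem gm_one : gm (1 : GL2 F) = 1 := rfl

theorem gm_injective : Function.Injective (gm : GL2 F → Matrix (Fin 2) (Fin 2) F) :=
  fun _ _ h => Units.ext h

theorem det_gm_ne_zero (g : GL2 F) : (gm g).det ≠ 0 :=
  ((Matrix.isUnit_iff_isUnit_det _).1 g.isUnit).ne_zero

/-- The determinant as a unit. -/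
noncomputable def dt : GL2 F →* Fˣ where
  toFun g := Units.mk0 (gm g).det (det_gm_ne_zero g)
  map_one' := Units.ext (by simp [gm_one])
  map_mul' g h := Units.ext (by simp [gm_mul, Matrix.det_mul])

theorem coe_dt (g : GL2 F) : (dt g : F) = (gm g).det := rfl

theorem commute_iff_gm {g h : GL2 F} : g * h = h * g ↔ gm g * gm h = gm h * gm g :=
  ⟨fun e => congrArg gm e, fun e => gm_injective e⟩

/-- An element from a matrix with non-zero determinant. -/
noncomputable def mk (A : Matrix (Fin 2) (Fin 2) F) (h : A.det ≠ 0) : GL2 F :=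
  Matrix.GeneralLinearGroup.mkOfDetNeZero A h

theorem gm_mk (A : Matrix (Fin 2) (Fin 2) F) (h : A.det ≠ 0) : gm (mk A h) = A := rfl

theorem isConj_iff_gm {g h : GL2 F} : IsConj g h ↔ ∃ x : GL2 F, gm h * gm x = gm x * gm g := by
  rw [isConj_iff]
  refine exists_congr fun x => ?_
  rw [mul_inv_eq_iff_eq_mul, ← gm_mul, ← gm_mul]
  exact ⟨fun e => congrArg gm e.symm, fun e => (gm_injective e).symm⟩

theorem trace_eq_of_isConj {g h : GL2 F} (e : IsConj g h) :
    (gm g).trace = (gm h).trace ∧ (gm g).det = (gm h).det := by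
  obtain ⟨x, hx⟩ := isConj_iff_gm.1 e
  constructor
  · obtain ⟨y, rfl⟩ := isConj_iff.1 e
    rw [gm_mul, Matrix.trace_mul_comm, ← gm_mul]
    simp [← mul_assoc]
  · have h1 := congrArg Matrix.det hx
    rw [Matrix.det_mul, Matrix.det_mul] at h1
    exact mul_right_cancel₀ (det_gm_ne_zero x) (by rw [h1, mul_comm])

/-- Non-scalar elements with equal trace and determinant are conjugate. -/
theorem isConj_of_eq {g h : GL2 F} (hg : ¬ IsScal (gm g)) (hh : ¬ IsScal (gm h))
    (ht : (gm g).trace = (gm h).trace) (hd : (gm g).det = (gm h).det) : IsConj g h := by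
  obtain ⟨P, hP, hPe⟩ := CfsgLib.SL2C.exists_conj hg hh ht hd
  exact isConj_iff_gm.2 ⟨mk P hP, by rwa [gm_mk]⟩

/-- The scalar element. -/
noncomputable def sc : Fˣ →* GL2 F where
  toFun a := mk ((a : F) • 1) (by simp [Matrix.det_smul])
  map_one' := gm_injective (by rw [gm_mk]; simp [gm_one])
  map_mul' a b := gm_injective (by simp [gm_mk, smul_smul, mul_comm])

theorem gm_sc (a : Fˣ) : gm (sc a) = (a : F) • 1 := rfl

theorem sc_injective : Function.Injective (sc : Fˣ → GL2 F) := fun a b h =>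
  Units.ext (by simpa [gm_sc] using congrFun (congrFun (congrArg gm h) 0) 0)

theorem sc_comm (a : Fˣ) (g : GL2 F) : g * sc a = sc a * g :=
  commute_iff_gm.2 (by simp [gm_sc])

theorem isScal_sc (a : Fˣ) : IsScal (gm (sc a)) := ⟨_, rfl⟩

theorem exists_sc_of_isScal {g : GL2 F} (h : IsScal (gm g)) : ∃ a : Fˣ, g = sc a := by
  obtain ⟨c, hc⟩ := h
  have hc0 : c ≠ 0 := fun e => det_gm_ne_zero g (by rw [hc, e, zero_smul]; simp)
  exact ⟨Units.mk0 c hc0, gm_injective (by rw [gm_sc, hc]; rfl)⟩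

/-- The element `(a x; 0 b)`. -/
noncomputable def tri (a b : Fˣ) (x : F) : GL2 F :=
  mk !![(a : F), x; 0, (b : F)] (by simp [Matrix.det_fin_two_of])

theorem gm_tri (a b : Fˣ) (x : F) : gm (tri a b x) = !![(a : F), x; 0, (b : F)] := rfl

theorem tri_inj {a b a' b' : Fˣ} {x x' : F} (h : tri a b x = tri a' b' x') :
    a = a' ∧ b = b' ∧ x = x' :=
  ⟨Units.ext (by simpa [gm_tri] using congrFun (congrFun (congrArg gm h) 0) 0),
    Units.ext (by simpa [gm_tri] using congrFun (congrFun (congrArg gm h) 1) 1),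
    by simpa [gm_tri] using congrFun (congrFun (congrArg gm h) 0) 1⟩

theorem exists_tri_of_apply {g : GL2 F} (h : gm g 1 0 = 0) :
    ∃ (a b : Fˣ) (x : F), g = tri a b x := by
  have hd := det_gm_ne_zero g
  rw [Matrix.det_fin_two, h, mul_zero, sub_zero, mul_ne_zero_iff] at hd
  refine ⟨Units.mk0 _ hd.1, Units.mk0 _ hd.2, gm g 0 1, gm_injective ?_⟩
  ext i j
  fin_cases i <;> fin_cases j <;> simp [gm_tri, h]

theorem tri_not_isScal {a b : Fˣ} {x : F} (h : a ≠ b ∨ x ≠ 0) : ¬ IsScal (gm (tri a b x)) := by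
  rw [CfsgLib.SL2C.isScal_iff]
  simp only [gm_tri, Matrix.of_apply, Matrix.cons_val', Matrix.cons_val_zero, Matrix.cons_val_one,
    Matrix.cons_val_fin_one, true_and, Units.val_inj]
  rintro ⟨h1, h2⟩
  rcases h with h | h <;> exact h (by assumption)

theorem trace_det_tri (a b : Fˣ) (x : F) :
    (gm (tri a b x)).trace = (a : F) + b ∧ (gm (tri a b x)).det = (a : F) * b := by
  simp [gm_tri, Matrix.trace_fin_two, Matrix.det_fin_two_of]

theorem not_noEig_tri (a b : Fˣ) (x : F) : ¬ NoEig (gm (tri a b x)) := by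
  intro h
  refine h (a : F) ![1, 0] (by simp) ?_
  ext i
  fin_cases i <;> simp [gm_tri, Matrix.mulVec, dotProduct, Fin.sum_univ_two]

theorem noEig_of_isConj {g h : GL2 F} (hg : NoEig (gm g)) (e : IsConj g h) : NoEig (gm h) := by
  obtain ⟨x, hx⟩ := isConj_iff_gm.1 e.symm
  intro c v hv hcv
  refine hg c (gm x *ᵥ v) (fun h0 => hv ?_) ?_
  · have h1 := congrArg (fun w => gm x⁻¹ *ᵥ w) h0
    simpa [Matrix.mulVec_mulVec, ← gm_mul, gm_one, -Matrix.coe_units_inv] using h1
  · rw [Matrix.mulVec_mulVec, hx, ← Matrix.mulVec_mulVec, hcv, Matrix.mulVec_smul]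

theorem noEig_iff_charpoly {A : Matrix (Fin 2) (Fin 2) F} :
    NoEig A ↔ ∀ c : F, c ^ 2 - A.trace * c + A.det ≠ 0 := by
  have key : ∀ c : F, (c • (1 : Matrix (Fin 2) (Fin 2) F) + (-1 : F) • A).det =
      c ^ 2 - A.trace * c + A.det := fun c => by rw [CfsgLib.SL2C.det_smul_add_smul]; ring
  constructor
  · intro h c hc
    exact h.det_smul_add_smul_ne_zero (a := c) (b := -1) (Or.inr (by simp)) (by rw [key, hc])
  · intro h c v hv hcv
    refine h c ?_
    rw [← key]
    refine Matrix.exists_mulVec_eq_zero_iff.1 ⟨v, hv, ?_⟩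
    rw [Matrix.add_mulVec, Matrix.smul_mulVec, Matrix.smul_mulVec, Matrix.one_mulVec, hcv]
    simp

/-- Scalar, split, parabolic or elliptic. -/
theorem cases4 (g : GL2 F) :
    (∃ a : Fˣ, g = sc a) ∨ (∃ a b : Fˣ, a ≠ b ∧ IsConj (tri a b 0) g) ∨
      (∃ a : Fˣ, IsConj (tri a a 1) g) ∨ NoEig (gm g) := by
  by_cases hs : IsScal (gm g)
  · exact Or.inl (exists_sc_of_isScal hs)
  by_cases he : NoEig (gm g)
  · exact Or.inr (Or.inr (Or.inr he))
  rw [noEig_iff_charpoly] at he
  push Not at he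
  obtain ⟨r, hr⟩ := he
  set s : F := (gm g).trace - r with hsdef
  have hdet : r * s = (gm g).det := by rw [hsdef]; linear_combination -hr
  have hr0 : r ≠ 0 := fun e => det_gm_ne_zero g (by rw [← hdet, e, zero_mul])
  have hs0 : s ≠ 0 := fun e => det_gm_ne_zero g (by rw [← hdet, e, mul_zero])
  by_cases hrs : r = s
  · refine Or.inr (Or.inr (Or.inl ⟨Units.mk0 r hr0, isConj_of_eq (tri_not_isScal (Or.inr one_ne_zero))
      hs ?_ ?_⟩))
    · rw [(trace_det_tri _ _ _).1]
      simp only [Units.val_mk0]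
      linear_combination hrs + hsdef
    · rw [(trace_det_tri _ _ _).2, ← hdet, ← hrs]
      rfl
  · refine Or.inr (Or.inl ⟨Units.mk0 r hr0, Units.mk0 s hs0, fun e => hrs (congrArg Units.val e),
      isConj_of_eq (tri_not_isScal (Or.inl fun e => hrs (congrArg Units.val e))) hs ?_ ?_⟩)
    · rw [(trace_det_tri _ _ _).1]
      simp [hsdef]
    · rw [(trace_det_tri _ _ _).2, ← hdet]
      rfl

/-! ### The nonsplit torus -/

/-- The nonsplit torus through an element without eigenvectors. -/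
abbrev gtor (c : GL2 F) : Subgroup (GL2 F) := Subgroup.centralizer ({c} : Set (GL2 F))

theorem exists_of_commute {g x : GL2 F} (hg : ¬ IsScal (gm g)) (h : g * x = x * g) :
    ∃ a b : F, gm x = a • 1 + b • gm g :=
  CfsgLib.SL2C.exists_eq_smul_add_smul hg (commute_iff_gm.1 h)

theorem mem_gtor {c x : GL2 F} : x ∈ gtor c ↔ gm c * gm x = gm x * gm c := by
  rw [Subgroup.mem_centralizer_singleton_iff, commute_iff_gm]
  exact eq_comm

theorem sc_mem_gtor (c : GL2 F) (a : Fˣ) : sc a ∈ gtor c :=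
  Subgroup.mem_centralizer_singleton_iff.2 (sc_comm a c).symm

theorem noEig_of_mem_gtor {c x : GL2 F} (hc : NoEig (gm c)) (hx : x ∈ gtor c)
    (hs : ¬ IsScal (gm x)) : NoEig (gm x) := by
  obtain ⟨a, b, hab⟩ := exists_of_commute hc.not_isScal
    (Subgroup.mem_centralizer_singleton_iff.1 hx).symm
  have hb : b ≠ 0 := fun e => hs ⟨a, by rw [hab, e, zero_smul, add_zero]⟩
  intro r v hv hrv
  refine hc ((r - a) / b) v hv ?_
  rw [hab, Matrix.add_mulVec, Matrix.smul_mulVec, Matrix.smul_mulVec, Matrix.one_mulVec] at hrv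
  ext i
  have h1 := congrFun hrv i
  simp at h1 ⊢
  field_simp
  linear_combination h1

theorem gtor_comm {c x y : GL2 F} (hc : ¬ IsScal (gm c)) (hx : x ∈ gtor c) (hy : y ∈ gtor c) :
    x * y = y * x := by
  obtain ⟨a, b, hab⟩ := exists_of_commute hc (Subgroup.mem_centralizer_singleton_iff.1 hx).symm
  rw [commute_iff_gm, hab]
  simp only [Matrix.add_mul, Matrix.mul_add, Matrix.smul_mul, Matrix.mul_smul, Matrix.one_mul,
    Matrix.mul_one, mem_gtor.1 hy]

theorem gtor_eq_of_mem {c x : GL2 F} (hc : ¬ IsScal (gm c)) (hx : x ∈ gtor c)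
    (hs : ¬ IsScal (gm x)) : gtor x = gtor c := by
  have hcx : c ∈ gtor x := Subgroup.mem_centralizer_singleton_iff.2
    (Subgroup.mem_centralizer_singleton_iff.1 hx).symm
  ext y
  refine ⟨fun hy => Subgroup.mem_centralizer_singleton_iff.2 (gtor_comm hs hy hcx),
    fun hy => Subgroup.mem_centralizer_singleton_iff.2 (gtor_comm hc hy hx)⟩

/-- `tr y • 1 - y`. -/
noncomputable def bar (y : GL2 F) : GL2 F :=
  mk (gm y).adjugate (by
    rw [Matrix.det_adjugate, Fintype.card_fin]
    simpa using det_gm_ne_zero y)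

theorem gm_bar (y : GL2 F) : gm (bar y) = (gm y).trace • 1 - gm y := by
  rw [bar, gm_mk]
  ext i j
  fin_cases i <;> fin_cases j <;> simp [Matrix.adjugate_fin_two, Matrix.trace_fin_two]

theorem bar_eq (y : GL2 F) : bar y = sc (dt y) * y⁻¹ := by
  rw [eq_mul_inv_iff_mul_eq]
  apply gm_injective
  rw [gm_mul, bar, gm_mk, gm_sc, Matrix.adjugate_mul]
  rfl

theorem trace_det_bar (y : GL2 F) :
    (gm (bar y)).trace = (gm y).trace ∧ (gm (bar y)).det = (gm y).det := by
  rw [gm_bar]
  simp [Matrix.trace_fin_two, Matrix.det_fin_two]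
  constructor <;> ring

theorem bar_bar (y : GL2 F) : bar (bar y) = y :=
  gm_injective (by rw [gm_bar, (trace_det_bar y).1, gm_bar, sub_sub_cancel])

theorem bar_sc (a : Fˣ) : bar (sc a) = sc a := by
  apply gm_injective
  rw [gm_bar, gm_sc]
  ext i j
  fin_cases i <;> fin_cases j <;> simp <;> ring

theorem bar_mem_gtor {c y : GL2 F} (hy : y ∈ gtor c) : bar y ∈ gtor c := by
  rw [bar_eq]
  exact mul_mem (sc_mem_gtor c _) (inv_mem hy)

theorem bar_mul {c x y : GL2 F} (hc : ¬ IsScal (gm c)) (hx : x ∈ gtor c) (hy : y ∈ gtor c) :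
    bar (x * y) = bar x * bar y := by
  apply gm_injective
  simp only [bar, gm_mul, gm_mk]
  rw [← gm_mul, gtor_comm hc hx hy, gm_mul, Matrix.adjugate_mul_distrib]

theorem bar_ne_self {y : GL2 F} (hy : NoEig (gm y)) [Fintype F] : bar y ≠ y := fun h => by
  have h1 : gm y + gm y = (gm y).trace • 1 := by
    conv_lhs => arg 1; rw [← h, gm_bar]
    simp
  by_cases h2 : (2 : F) = 0
  · have hch : ringChar F = 2 := by
      by_contra hne
      exact Ring.two_ne_zero hne h2
    have ht : (gm y).trace = 0 := by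
      have h3 := congrFun (congrFun h1 0) 0
      simp at h3
      linear_combination -h3 + gm y 0 0 * h2
    obtain ⟨r, hr⟩ := FiniteField.isSquare_of_char_two hch (gm y).det
    refine noEig_iff_charpoly.1 hy r ?_
    rw [ht, hr]
    linear_combination (r * r) * h2
  · refine NoEig.not_isScal hy ⟨(gm y).trace / 2, ?_⟩
    ext i j
    have h3 := congrFun (congrFun h1 i) j
    simp at h3 ⊢
    field_simp
    linear_combination h3

/-- Two elements of the torus with the same trace and determinant. -/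
theorem eq_or_eq_bar {c x y : GL2 F} (hc : NoEig (gm c)) (hx : x ∈ gtor c) (hy : y ∈ gtor c)
    (ht : (gm x).trace = (gm y).trace) (hd : (gm x).det = (gm y).det) : x = y ∨ x = bar y := by
  have hmem : ∀ {A : Matrix (Fin 2) (Fin 2) F}, gm c * A = A * gm c → A.det = 0 → A = 0 := by
    intro A hA hd0
    obtain ⟨a, b, rfl⟩ := CfsgLib.SL2C.exists_eq_smul_add_smul hc.not_isScal hA
    by_cases h0 : a ≠ 0 ∨ b ≠ 0
    · exact absurd hd0 (hc.det_smul_add_smul_ne_zero h0)
    · push Not at h0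
      rw [h0.1, h0.2, zero_smul, zero_smul, add_zero]
  have hxy := congrArg gm (gtor_comm hc.not_isScal hx hy)
  rw [gm_mul, gm_mul] at hxy
  have hA : gm c * (gm x - gm y) = (gm x - gm y) * gm c := by
    rw [Matrix.mul_sub, Matrix.sub_mul, mem_gtor.1 hx, mem_gtor.1 hy]
  have hB : gm c * (gm x - gm (bar y)) = (gm x - gm (bar y)) * gm c := by
    rw [Matrix.mul_sub, Matrix.sub_mul, mem_gtor.1 hx, mem_gtor.1 (bar_mem_gtor hy)]
  have hprod : (gm x - gm y) * (gm x - gm (bar y)) = 0 := by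
    have h1 := CfsgLib.SL2C.sq_eq (gm x)
    have h2 := CfsgLib.SL2C.sq_eq (gm y)
    rw [gm_bar]
    simp only [Matrix.sub_mul, Matrix.mul_sub, Matrix.mul_smul, Matrix.mul_one, h1, h2, ht, hd,
      hxy]
    module
  have h0 := congrArg Matrix.det hprod
  rw [Matrix.det_mul, Matrix.det_zero, mul_eq_zero] at h0
  rcases h0 with h0 | h0
  · exact Or.inl (gm_injective (sub_eq_zero.1 (hmem hA h0)))
  · exact Or.inr (gm_injective (sub_eq_zero.1 (hmem hB h0)))

variable [Fintype F]

theorem exists_noEig : ∃ c : GL2 F, NoEig (gm c) := by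
  obtain ⟨g, hg⟩ := CfsgLib.SL2C.exists_ell (F := F)
  exact ⟨mk (CfsgLib.SL2C.mt g) (by rw [CfsgLib.SL2C.det_mt]; exact one_ne_zero), by
    rw [gm_mk]; exact hg⟩

theorem card_GL2 : Nat.card (GL2 F) =
    (Fintype.card F ^ 2 - 1) * (Fintype.card F ^ 2 - Fintype.card F) := by
  rw [Matrix.card_GL_field, Fin.prod_univ_two]
  simp

theorem card_gtor {c : GL2 F} (hc : NoEig (gm c)) :
    Nat.card (gtor c) = Fintype.card F ^ 2 - 1 := by
  have hf : ∀ p : {p : F × F // p ≠ 0}, (p.1.1 • 1 + p.1.2 • gm c).det ≠ 0 := fun p =>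
    hc.det_smul_add_smul_ne_zero (by
      by_contra h
      push Not at h
      exact p.2 (Prod.ext h.1 h.2))
  rw [← Nat.card_eq_of_bijective (fun p : {p : F × F // p ≠ 0} =>
    (⟨mk _ (hf p), mem_gtor.2 (CfsgLib.SL2C.mul_comm_smul_add _ _ _)⟩ : gtor c)) ⟨?_, ?_⟩,
    Nat.card_eq_fintype_card, Fintype.card_subtype, Finset.filter_ne',
    Finset.card_erase_of_mem (Finset.mem_univ _), Finset.card_univ, Fintype.card_prod, pow_two]
  · intro p r h
    obtain ⟨h1, h2⟩ := CfsgLib.SL2C.smul_add_smul_inj hc.not_isScal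
      (congrArg (fun y : gtor c => gm y.1) h)
    exact Subtype.ext (Prod.ext h1 h2)
  · rintro ⟨x, hx⟩
    obtain ⟨a, b, hab⟩ := exists_of_commute hc.not_isScal
      (Subgroup.mem_centralizer_singleton_iff.1 hx).symm
    refine ⟨⟨(a, b), fun e => det_gm_ne_zero x ?_⟩, Subtype.ext (gm_injective hab.symm)⟩
    rw [hab, show a = 0 from congrArg Prod.fst e, show b = 0 from congrArg Prod.snd e]
    simp

theorem isCyclic_gtor {c : GL2 F} (hc : NoEig (gm c)) : IsCyclic (gtor c) := by
  let R : Subring (Matrix (Fin 2) (Fin 2) F) := Subring.centralizer {gm c}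
  have hrep : ∀ x : R, ∃ a b : F, (x : Matrix (Fin 2) (Fin 2) F) = a • 1 + b • gm c := fun x =>
    CfsgLib.SL2C.exists_eq_smul_add_smul hc.not_isScal
      (Subring.mem_centralizer_iff.1 x.2 (gm c) (Set.mem_singleton _))
  letI : CommRing R :=
    { (inferInstance : Ring R) with
      mul_comm := fun x y => by
        obtain ⟨a, b, hab⟩ := hrep x
        obtain ⟨a', b', hab'⟩ := hrep y
        apply Subtype.ext
        change (x : Matrix (Fin 2) (Fin 2) F) * y = y * x
        rw [hab, hab']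
        simp only [Matrix.add_mul, Matrix.mul_add, Matrix.smul_mul, Matrix.mul_smul,
          Matrix.one_mul, Matrix.mul_one]
        module }
  haveI : NoZeroDivisors R := ⟨fun {x y} h => by
    obtain ⟨a, b, hab⟩ := hrep x
    by_cases h0 : a = 0 ∧ b = 0
    · exact Or.inl (Subtype.ext (by rw [hab, h0.1, h0.2]; simp))
    · refine Or.inr (Subtype.ext ?_)
      have hd := hc.det_smul_add_smul_ne_zero (a := a) (b := b) (by tauto)
      rw [← hab] at hd
      have h1 : (x : Matrix (Fin 2) (Fin 2) F) * y = 0 := congrArg Subtype.val h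
      calc (y : Matrix (Fin 2) (Fin 2) F) =
            (x : Matrix (Fin 2) (Fin 2) F)⁻¹ * ((x : Matrix (Fin 2) (Fin 2) F) * y) := by
            rw [← Matrix.mul_assoc, Matrix.nonsing_inv_mul _ (isUnit_iff_ne_zero.2 hd),
              Matrix.one_mul]
        _ = ((0 : R) : Matrix (Fin 2) (Fin 2) F) := by rw [h1, Matrix.mul_zero]; rfl⟩
  haveI : IsDomain R := NoZeroDivisors.to_isDomain R
  let φ : gtor c →* R :=
    { toFun := fun x => ⟨gm x.1, Subring.mem_centralizer_iff.2 fun g hg => by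
        rw [Set.mem_singleton_iff.1 hg]
        exact mem_gtor.1 x.2⟩
      map_one' := rfl
      map_mul' := fun _ _ => Subtype.ext rfl }
  exact isCyclic_of_injective_ringHom φ fun a b h =>
    Subtype.ext (gm_injective (congrArg (fun r : R => (r : Matrix (Fin 2) (Fin 2) F)) h))

/-- Conjugation of the torus, as a homomorphism. -/
noncomputable def barHom {c : GL2 F} (hc : NoEig (gm c)) : gtor c →* gtor c where
  toFun y := ⟨bar y.1, bar_mem_gtor y.2⟩
  map_one' := Subtype.ext (by
    show bar (1 : GL2 F) = 1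
    rw [← map_one (sc : Fˣ →* GL2 F), bar_sc])
  map_mul' x y := Subtype.ext (bar_mul hc.not_isScal x.2 y.2)

end CfsgLib.GL2C
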