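import Cfsg.Agent.GL2C.Table
import Cfsg.Agent.Char.BrauerPerm
import Mathlib.LinearAlgebra.Matrix.Charpoly.Coeff

/-!
GL₂ over a finite field: consequences of the character table.
-/

set_option autoImplicit false
set_option linter.unusedSectionVars false
set_option linter.style.haveILetI false

namespace CfsgLib.GL2C

open Matrix Finset
open scoped ComplexConjugate Classical
open CfsgLib.SL2C (IsScal NoEig ch)
open CfsgLib.Char (irrFinset)

variable {F : Type*} [Field F]

theorem exists_eq_diag {g : GL2 F} (h01 : gm g 0 1 = 0) (h10 : gm g 1 0 = 0)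
    (hne : gm g 0 0 ≠ gm g 1 1) : ∃ a b : Fˣ, a ≠ b ∧ g = tri a b 0 := by
  obtain ⟨a, b, x, rfl⟩ := exists_tri_of_apply h10
  simp [gm_tri] at h01 hne
  exact ⟨a, b, fun e => hne (congrArg Units.val e), by rw [h01]⟩

theorem exists_eq_par {g : GL2 F} (h10 : gm g 1 0 = 0) (heq : gm g 0 0 = gm g 1 1)
    (hne : gm g 0 1 ≠ 0) : ∃ (a : Fˣ) (x : F), x ≠ 0 ∧ g = tri a a x := by
  obtain ⟨a, b, x, rfl⟩ := exists_tri_of_apply h10
  simp [gm_tri] at heq hne
  have hab : a = b := Units.ext (by simpa using heq)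
  exact ⟨a, x, hne, by rw [hab]⟩

/-- An element of order `p` in characteristic `p` has trace two and determinant one. -/
theorem of_orderOf_eq_char (p : ℕ) [hp : Fact p.Prime] [CharP F p] {g : GL2 F}
    (hg : orderOf g = p) :
    ¬ IsScal (gm g) ∧ (gm g).trace = 2 ∧ (gm g).det = 1 := by
  have hgp : gm g ^ p = 1 := by
    rw [← hg]
    exact (Units.val_pow_eq_pow_val g (orderOf g)).symm.trans
      (congrArg gm (pow_orderOf_eq_one g))
  have hnil : IsNilpotent (gm g - 1) := by
    refine ⟨p, ?_⟩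
    rw [sub_pow_char_of_commute p (Commute.one_right _), hgp, one_pow, sub_self]
  have htr : (gm g - 1).trace = 0 :=
    (Matrix.isNilpotent_trace_of_isNilpotent hnil).eq_zero
  have hdet : (gm g - 1).det = 0 := by
    obtain ⟨k, hk⟩ := hnil
    have := congrArg Matrix.det hk
    rw [Matrix.det_pow, Matrix.det_zero] at this
    exact eq_zero_of_pow_eq_zero this
  simp [Matrix.trace_fin_two, Matrix.det_fin_two] at htr hdet
  refine ⟨fun hs => ?_, ?_, ?_⟩
  · obtain ⟨a, rfl⟩ := exists_sc_of_isScal hs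
    simp [gm_sc] at htr hdet
    have ha : (a : F) = 1 := sub_eq_zero.1 hdet
    rw [show a = 1 from Units.ext ha, map_one, orderOf_one] at hg
    exact hp.out.one_lt.ne hg
  · rw [Matrix.trace_fin_two]
    linear_combination htr
  · rw [Matrix.det_fin_two]
    linear_combination hdet + htr

variable [Fintype F]

theorem stabilizer_coset_eq :
    MulAction.stabilizer (GL2 F) ((1 : GL2 F) : GL2 F ⧸ Bor F) = Bor F :=
  MulAction.stabilizer_quotient _

theorem fixedPointCharacter_eq :
    Cfsg.fixedPointCharacter (Bor F) = (R 1 1 : GL2 F → ℂ) := by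
  have h := CfsgLib.Char.indFun_one_stabilizer (G := GL2 F) ((1 : GL2 F) : GL2 F ⧸ Bor F)
  rw [stabilizer_coset_eq] at h
  refine Eq.trans h.symm ?_
  rw [R]
  congr 1
  funext b
  simp [ch]

theorem card_conjClasses :
    Nat.card (ConjClasses (GL2 F)) = Fintype.card F ^ 2 - 1 := by
  obtain ⟨c, hc⟩ := exists_noEig (F := F)
  haveI : Finite (GL2 F) := inferInstance
  have h := CfsgLib.Char.card_fixed_irr_eq_card_fixed_class (G := GL2 F) id id
    (fun χ g => by
      have hi : IsConj g (id (ConjClasses.mk g)).out :=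
        ConjClasses.mk_eq_mk_iff_isConj.1 (Quotient.out_eq (ConjClasses.mk g)).symm
      exact CfsgLib.Char.IsClassFunction.apply_eq_of_isConj
        (CfsgLib.Char.IsCharacter.isClassFunction
          (CfsgLib.Char.IsIrrCharacter.isCharacter χ.2)) hi)
  have e1 : Nat.card (ConjClasses (GL2 F)) = (irrFinset (GL2 F)).card := by
    rw [← CfsgLib.Char.card_irr,
      ← Nat.card_congr (Equiv.subtypeUnivEquiv (p := fun C : ConjClasses (GL2 F) => id C = C)
        fun _ => rfl), ← h]
    exact Nat.card_congr (Equiv.subtypeUnivEquiv fun _ => rfl)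
  have h2 := sum_irr hc (fun _ => (1 : ℂ))
  simp only [Finset.sum_const, Finset.card_univ, nsmul_eq_mul, mul_one, card_dual_units',
    cast_card_AR, cast_card_AT hc] at h2
  push_cast at h2
  apply Nat.cast_injective (R := ℂ)
  rw [e1, Nat.cast_sub (Nat.one_le_pow _ _ Fintype.card_pos)]
  push_cast
  linear_combination h2 / 2

theorem natCard_degree {d : ℕ} (hq : 3 ≤ Fintype.card F) :
    (2 * Nat.card {χ : Cfsg.IrrCharacter (GL2 F) // (χ : GL2 F → ℂ) 1 = (d : ℂ)} : ℂ) =
      2 * ((Fintype.card F : ℂ) - 1) * (if 1 = d then 1 else 0) +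
      2 * ((Fintype.card F : ℂ) - 1) * (if Fintype.card F = d then 1 else 0) +
      ((Fintype.card F : ℂ) - 1) * ((Fintype.card F : ℂ) - 2) *
        (if Fintype.card F + 1 = d then 1 else 0) +
      ((Fintype.card F : ℂ) ^ 2 - Fintype.card F) *
        (if Fintype.card F - 1 = d then 1 else 0) := by
  obtain ⟨c, hc⟩ := exists_noEig (F := F)
  rw [CfsgLib.SL2C.cast_natCard_irr_subtype (fun χ => χ 1 = (d : ℂ))]
  have h := sum_irr hc (fun χ => if χ 1 = (d : ℂ) then (1 : ℂ) else 0)
  have e0 : ∀ γ, det1 γ (1 : GL2 F) = ((1 : ℕ) : ℂ) := fun γ => by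
    rw [det1_apply_one]; simp
  have e1 : ∀ γ, St γ (1 : GL2 F) = ((Fintype.card F : ℕ) : ℂ) := St_apply_one
  have e2 : ∀ α β, R α β (1 : GL2 F) = ((Fintype.card F + 1 : ℕ) : ℂ) := fun α β => by
    rw [R_apply_one]; simp
  have e3 : ∀ θ : gtor c →* ℂˣ, Pi' θ 1 = ((Fintype.card F - 1 : ℕ) : ℂ) := fun θ => by
    rw [Pi'_apply_one hc, Nat.cast_sub (by omega), Nat.cast_one]
  simp only [e0, e1, e2, e3, Nat.cast_inj, Finset.sum_const, Finset.card_univ, nsmul_eq_mul,
    card_dual_units', cast_card_AR, cast_card_AT hc] at h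
  push_cast at h
  linear_combination h

end CfsgLib.GL2C
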