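import Cfsg.Agent.GL2C.SumFormula
import Cfsg.Agent.SL2C.Table
import Cfsg.Agent.Char.Induction
import Cfsg.Prelude.Def_ParabolicCharacters

/-!
GL₂ over a finite field: class functions by their values on the four types of elements, induction
from the Borel subgroup and from the nonsplit torus.
-/

set_option autoImplicit false
set_option linter.unusedSectionVars false
set_option linter.style.haveILetI false

namespace CfsgLib.GL2C

open Matrix Finset
open scoped ComplexConjugate Classical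
open CfsgLib.SL2C (IsScal NoEig ch dl ch_mul)

variable {F : Type*} [Field F]

/-- The upper triangular subgroup. -/
abbrev Bor (F : Type*) [Field F] : Subgroup (GL2 F) := Cfsg.upperTriangularGL 2 F

theorem mem_Bor {g : GL2 F} : g ∈ Bor F ↔ gm g 1 0 = 0 := by
  constructor
  · intro h
    exact h (show (0 : Fin 2) < 1 by decide)
  · intro h i j hij
    fin_cases i <;> fin_cases j <;> first | exact h | (exact absurd hij (by decide))

theorem tri_mem_Bor (a b : Fˣ) (x : F) : tri a b x ∈ Bor F := mem_Bor.2 (by simp [gm_tri])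

theorem diag_ne_zero_of_mem {g : GL2 F} (h : g ∈ Bor F) : gm g 0 0 ≠ 0 ∧ gm g 1 1 ≠ 0 := by
  obtain ⟨a, b, x, rfl⟩ := exists_tri_of_apply (mem_Bor.1 h)
  simp [gm_tri]

/-- The top left entry, as a homomorphism on the Borel subgroup. -/
noncomputable def e00 : Bor F →* Fˣ where
  toFun b := Units.mk0 (gm b.1 0 0) (diag_ne_zero_of_mem b.2).1
  map_one' := Units.ext (by simp)
  map_mul' a b := Units.ext (by
    simp [gm_mul, Matrix.mul_apply, Fin.sum_univ_two, mem_Bor.1 b.2])

/-- The bottom right entry, as a homomorphism on the Borel subgroup. -/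
noncomputable def e11 : Bor F →* Fˣ where
  toFun b := Units.mk0 (gm b.1 1 1) (diag_ne_zero_of_mem b.2).2
  map_one' := Units.ext (by simp)
  map_mul' a b := Units.ext (by
    simp [gm_mul, Matrix.mul_apply, Fin.sum_univ_two, mem_Bor.1 a.2])

/-- The linear character of the Borel subgroup attached to a pair. -/
noncomputable def borHom (α β : Fˣ →* ℂˣ) : Bor F →* ℂˣ := α.comp e00 * β.comp e11

theorem coe_borHom (α β : Fˣ →* ℂˣ) (b : Bor F) :
    ((borHom α β b : ℂˣ) : ℂ) = ch α (e00 b) * ch β (e11 b) := by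
  simp [borHom, ch]

variable [Fintype F]

/-- The principal series. -/
noncomputable def R (α β : Fˣ →* ℂˣ) : GL2 F → ℂ :=
  Cfsg.indFun (Bor F) fun b => ch α (e00 b) * ch β (e11 b)

theorem R_eq_indFun [DecidableEq F] (α β : MulChar F ℂ) :
    Cfsg.indFun (Bor F) (fun b => α ((b.1 : Matrix (Fin 2) (Fin 2) F) 0 0) *
      β ((b.1 : Matrix (Fin 2) (Fin 2) F) 1 1)) = R α.toUnitHom β.toUnitHom := by
  rw [R, show (fun b : Bor F => ch α.toUnitHom (e00 b) * ch β.toUnitHom (e11 b)) =
      fun b : Bor F => α (gm b.1 0 0) * β (gm b.1 1 1) from funext fun b => by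
    rw [ch, ch, MulChar.coe_toUnitHom, MulChar.coe_toUnitHom]
    rfl]
  convert rfl

theorem R_isCharacter (α β : Fˣ →* ℂˣ) : Cfsg.IsCharacter (GL2 F) (R α β) := by
  have h := CfsgLib.Char.IsCharacter.indFun (G := GL2 F)
    (CfsgLib.Char.isCharacter_ofHom (borHom α β))
  simp only [coe_borHom] at h
  exact h

theorem extend_tri (α β : Fˣ →* ℂˣ) (u v : Fˣ) (y : F) :
    Cfsg.extendByZero (Bor F) (fun b => ch α (e00 b) * ch β (e11 b)) (tri u v y) =
      ch α u * ch β v := by
  rw [CfsgLib.Char.extendByZero_of_mem _ (tri_mem_Bor u v y)]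
  rw [show e00 (⟨tri u v y, tri_mem_Bor u v y⟩ : Bor F) = u from Units.ext rfl,
    show e11 (⟨tri u v y, tri_mem_Bor u v y⟩ : Bor F) = v from Units.ext rfl]

theorem card_Bor : Nat.card (Bor F) = (Fintype.card F - 1) ^ 2 * Fintype.card F := by
  rw [← Nat.card_eq_of_bijective (fun p : (Fˣ × Fˣ) × F =>
      (⟨tri p.1.1 p.1.2 p.2, tri_mem_Bor _ _ _⟩ : Bor F)) ⟨?_, ?_⟩, Nat.card_prod, Nat.card_prod,
    Nat.card_eq_fintype_card, Nat.card_eq_fintype_card, Fintype.card_units, sq]
  · intro p r e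
    obtain ⟨h1, h2, h3⟩ := tri_inj (congrArg Subtype.val e)
    exact Prod.ext (Prod.ext h1 h2) h3
  · rintro ⟨g, hg⟩
    obtain ⟨a, b, x, rfl⟩ := exists_tri_of_apply (mem_Bor.1 hg)
    exact ⟨((a, b), x), rfl⟩

theorem cast_card_Bor :
    (Nat.card (Bor F) : ℂ) = ((Fintype.card F : ℂ) - 1) ^ 2 * (Fintype.card F : ℂ) := by
  rw [card_Bor, Nat.cast_mul, Nat.cast_pow, Nat.cast_sub Fintype.card_pos, Nat.cast_one]

/-- The antidiagonal element. -/
noncomputable def wel : GL2 F := mk !![0, 1; 1, 0] (by simp [Matrix.det_fin_two_of])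

theorem wel_mul_apply (x : GL2 F) :
    gm (wel * x) 1 0 = gm x 0 0 ∧ gm (wel * x) 0 0 = gm x 1 0 := by
  simp [gm_mul, wel, gm_mk, Matrix.mul_apply, Fin.sum_univ_two]

theorem wel_inv : (wel : GL2 F)⁻¹ = wel := by
  rw [inv_eq_iff_mul_eq_one]
  apply gm_injective
  ext i j
  fin_cases i <;> fin_cases j <;> simp [wel, gm_mk, Matrix.mul_apply, Fin.sum_univ_two]

theorem wel_conj_tri (a b : Fˣ) : wel * tri a b 0 * wel = tri b a (0 : F) := by
  apply gm_injective
  ext i j
  fin_cases i <;> fin_cases j <;>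
    simp [wel, gm_mk, gm_tri, Matrix.mul_apply, Fin.sum_univ_two]

theorem card_filter_10 :
    (univ.filter fun x : GL2 F => gm x 1 0 = 0).card = Nat.card (Bor F) := by
  rw [Nat.card_eq_fintype_card, Fintype.card_subtype]
  congr 1
  ext x
  simpa using mem_Bor.symm

theorem card_filter_00 :
    (univ.filter fun x : GL2 F => gm x 0 0 = 0).card = Nat.card (Bor F) := by
  rw [← card_filter_10]
  refine Finset.card_equiv (Equiv.mulLeft wel) fun x => ?_
  simp only [Finset.mem_filter, Finset.mem_univ, true_and, Equiv.coe_mulLeft, (wel_mul_apply x).1]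

theorem R_apply_sc (α β : Fˣ →* ℂˣ) (a : Fˣ) :
    R α β (sc a) = ((Fintype.card F : ℂ) + 1) * (ch α a * ch β a) := by
  have hconj : ∀ x : GL2 F, x⁻¹ * sc a * x = tri a a 0 := fun x => by
    rw [mul_assoc, ← sc_comm, inv_mul_cancel_left]
    apply gm_injective
    ext i j
    fin_cases i <;> fin_cases j <;> simp [gm_sc, gm_tri]
  rw [R, CfsgLib.Char.indFun_def]
  simp only [hconj, extend_tri, Finset.sum_const, Finset.card_univ, nsmul_eq_mul, cast_card_Bor,
    cast_card_GL2]
  field_simp [q_sub_one_ne_zero' (F := F), q_ne_zero' (F := F)]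

theorem R_apply_split (α β : Fˣ →* ℂˣ) {a b : Fˣ} (hab : a ≠ b) :
    R α β (tri a b 0) = ch α a * ch β b + ch α b * ch β a := by
  have hne : (a : F) ≠ b := fun e => hab (Units.ext e)
  have hterm : ∀ x : GL2 F,
      Cfsg.extendByZero (Bor F) (fun b => ch α (e00 b) * ch β (e11 b)) (x⁻¹ * tri a b 0 * x) =
        (if gm x 1 0 = 0 then ch α a * ch β b else 0) +
        (if gm x 0 0 = 0 then ch α b * ch β a else 0) := by
    intro x
    by_cases ht : x⁻¹ * tri a b 0 * x ∈ Bor F
    · obtain ⟨u, v, y, e⟩ := exists_tri_of_apply (mem_Bor.1 ht)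
      have e' : tri a b 0 * x = x * tri u v y := by rw [← e]; group
      have h0 := congrFun (congrFun (congrArg gm e') 0) 0
      have h1 := congrFun (congrFun (congrArg gm e') 1) 0
      simp [gm_tri, Matrix.mul_apply, Fin.sum_univ_two] at h0 h1
      obtain ⟨htr, hdt⟩ := trace_eq_of_isConj
        (isConj_iff.2 ⟨x, by rw [← e]; group⟩ : IsConj (tri u v y) (tri a b 0))
      rw [(trace_det_tri _ _ _).1, (trace_det_tri _ _ _).1] at htr
      rw [e, extend_tri]
      by_cases h10 : gm x 1 0 = 0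
      · have h00 : gm x 0 0 ≠ 0 := (diag_ne_zero_of_mem (mem_Bor.2 h10)).1
        have hu : u = a := Units.ext (mul_left_cancel₀ h00 (by linear_combination -h0))
        have hv : v = b := Units.ext (by
          have := congrArg Units.val hu
          linear_combination htr - this)
        rw [if_pos h10, if_neg h00, add_zero, hu, hv]
      · have hu : u = b := Units.ext (mul_left_cancel₀ h10 (by linear_combination -h1))
        have hv : v = a := Units.ext (by
          have := congrArg Units.val hu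
          linear_combination htr - this)
        have h00 : gm x 0 0 = 0 := by
          have h2 : gm x 0 0 * ((a : F) - b) = 0 := by
            have := congrArg Units.val hu
            linear_combination h0 + gm x 0 0 * this
          exact (mul_eq_zero.1 h2).resolve_right (sub_ne_zero.2 hne)
        rw [if_neg h10, if_pos h00, zero_add, hu, hv]
    · have h10 : gm x 1 0 ≠ 0 := fun h => ht
        (mul_mem (mul_mem (inv_mem (mem_Bor.2 h)) (tri_mem_Bor a b 0)) (mem_Bor.2 h))
      have h00 : gm x 0 0 ≠ 0 := fun h => ht (by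
        have hx : wel * x ∈ Bor F := mem_Bor.2 ((wel_mul_apply x).1.trans h)
        have := mul_mem (mul_mem (inv_mem hx) (tri_mem_Bor b a 0)) hx
        rw [← wel_conj_tri a b] at this
        convert this using 1
        rw [_root_.mul_inv_rev, wel_inv]
        have hw : (wel : GL2 F) * wel = 1 := by
          nth_rewrite 1 [← wel_inv]; exact inv_mul_cancel _
        simp only [← mul_assoc]
        rw [mul_assoc x⁻¹ wel wel, hw, mul_one, mul_assoc (x⁻¹ * tri a b 0) wel wel, hw, mul_one])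
      rw [if_neg h10, if_neg h00, add_zero, CfsgLib.Char.extendByZero_of_not_mem _ ht]
  rw [R, CfsgLib.Char.indFun_def, Finset.sum_congr rfl fun x _ => hterm x, Finset.sum_add_distrib,
    ← Finset.sum_filter, ← Finset.sum_filter, Finset.sum_const, Finset.sum_const, card_filter_10,
    card_filter_00, nsmul_eq_mul, nsmul_eq_mul, ← mul_add,
    inv_mul_cancel_left₀ (Nat.cast_ne_zero.2 Nat.card_pos.ne')]

theorem R_apply_par (α β : Fˣ →* ℂˣ) (a : Fˣ) {z : F} (hz : z ≠ 0) :
    R α β (tri a a z) = ch α a * ch β a := by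
  have hterm : ∀ x : GL2 F,
      Cfsg.extendByZero (Bor F) (fun b => ch α (e00 b) * ch β (e11 b)) (x⁻¹ * tri a a z * x) =
        if gm x 1 0 = 0 then ch α a * ch β a else 0 := by
    intro x
    by_cases ht : x⁻¹ * tri a a z * x ∈ Bor F
    · obtain ⟨u, v, y, e⟩ := exists_tri_of_apply (mem_Bor.1 ht)
      have e' : tri a a z * x = x * tri u v y := by rw [← e]; group
      have h0 := congrFun (congrFun (congrArg gm e') 0) 0
      have h1 := congrFun (congrFun (congrArg gm e') 1) 0
      simp [gm_tri, Matrix.mul_apply, Fin.sum_univ_two] at h0 h1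
      have htr := (trace_eq_of_isConj
        (isConj_iff.2 ⟨x, by rw [← e]; group⟩ : IsConj (tri u v y) (tri a a z))).1
      rw [(trace_det_tri _ _ _).1, (trace_det_tri _ _ _).1] at htr
      have h10 : gm x 1 0 = 0 := by
        by_contra h10
        have hu : (u : F) = a := mul_left_cancel₀ h10 (by linear_combination -h1)
        exact mul_ne_zero hz h10 (by linear_combination h0 + gm x 0 0 * hu)
      have h00 : gm x 0 0 ≠ 0 := (diag_ne_zero_of_mem (mem_Bor.2 h10)).1
      have hu : (u : F) = a := mul_left_cancel₀ h00 (by linear_combination -h0 + z * h10)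
      rw [e, extend_tri, if_pos h10, Units.ext hu,
        show v = a from Units.ext (by linear_combination htr - hu)]
    · have h10 : gm x 1 0 ≠ 0 := fun h => ht
        (mul_mem (mul_mem (inv_mem (mem_Bor.2 h)) (tri_mem_Bor a a z)) (mem_Bor.2 h))
      rw [if_neg h10, CfsgLib.Char.extendByZero_of_not_mem _ ht]
  rw [R, CfsgLib.Char.indFun_def, Finset.sum_congr rfl fun x _ => hterm x, ← Finset.sum_filter,
    Finset.sum_const, card_filter_10, nsmul_eq_mul,
    inv_mul_cancel_left₀ (Nat.cast_ne_zero.2 Nat.card_pos.ne')]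

theorem R_apply_noEig (α β : Fˣ →* ℂˣ) {g : GL2 F} (hg : NoEig (gm g)) : R α β g = 0 := by
  refine CfsgLib.Char.indFun_eq_zero _ fun x hx => ?_
  obtain ⟨a, b, y, hab⟩ := exists_tri_of_apply (mem_Bor.1 hx)
  exact not_noEig_tri a b y (noEig_of_isConj hg (isConj_iff.2 ⟨x⁻¹, by rw [← hab, inv_inv]⟩))

/-! ### Functions given by values -/

/-- `f` takes the values `sv`, `dv`, `pv`, `tv` on the four types. -/
structure Vals (c : GL2 F) (f : GL2 F → ℂ) (sv : Fˣ → ℂ) (dv : Fˣ → Fˣ → ℂ) (pv : Fˣ → ℂ)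
    (tv : GL2 F → ℂ) : Prop where
  cls : Cfsg.IsClassFunction (GL2 F) f
  sca : ∀ a, f (sc a) = sv a
  spl : ∀ a b, a ≠ b → f (tri a b 0) = dv a b
  par : ∀ a, f (tri a a 1) = pv a
  tor : ∀ y ∈ torReg c, f y = tv y

variable {c : GL2 F} {f g : GL2 F → ℂ} {sv sv' : Fˣ → ℂ} {dv dv' : Fˣ → Fˣ → ℂ}
  {pv pv' : Fˣ → ℂ} {tv tv' : GL2 F → ℂ}

theorem Vals.congr (h : Vals c f sv dv pv tv) (h1 : ∀ a, sv a = sv' a)
    (h2 : ∀ a b, a ≠ b → dv a b = dv' a b) (h3 : ∀ a, pv a = pv' a)
    (h4 : ∀ y ∈ torReg c, tv y = tv' y) : Vals c f sv' dv' pv' tv' :=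
  ⟨h.cls, fun a => (h.sca a).trans (h1 a), fun a b hab => (h.spl a b hab).trans (h2 a b hab),
    fun a => (h.par a).trans (h3 a), fun y hy => (h.tor y hy).trans (h4 y hy)⟩

theorem Vals.sub (h : Vals c f sv dv pv tv) (h' : Vals c g sv' dv' pv' tv') :
    Vals c (f - g) (sv - sv') (dv - dv') (pv - pv') (tv - tv') := by
  refine ⟨fun x y => ?_, fun a => ?_, fun a b hab => ?_, fun a => ?_, fun y hy => ?_⟩
  · simp [h.cls x y, h'.cls x y]
  · simp [h.sca a, h'.sca a]
  · simp [h.spl a b hab, h'.spl a b hab]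
  · simp [h.par a, h'.par a]
  · simp [h.tor y hy, h'.tor y hy]

theorem Vals.mul (h : Vals c f sv dv pv tv) (h' : Vals c g sv' dv' pv' tv') :
    Vals c (f * g) (sv * sv') (dv * dv') (pv * pv') (tv * tv') := by
  refine ⟨fun x y => ?_, fun a => ?_, fun a b hab => ?_, fun a => ?_, fun y hy => ?_⟩
  · simp [h.cls x y, h'.cls x y]
  · simp [h.sca a, h'.sca a]
  · simp [h.spl a b hab, h'.spl a b hab]
  · simp [h.par a, h'.par a]
  · simp [h.tor y hy, h'.tor y hy]

theorem Vals.apply_one (h : Vals c f sv dv pv tv) : f 1 = sv 1 := by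
  rw [← h.sca 1, map_one]

theorem Vals.eq_of (hc : NoEig (gm c)) (h : Vals c f sv dv pv tv) (h' : Vals c g sv dv pv tv) :
    f = g := by
  funext x
  rcases cases4' hc x with ⟨a, rfl⟩ | ⟨a, b, hab, hx⟩ | ⟨a, hx⟩ | ⟨s, hs, hx⟩
  · rw [h.sca a, h'.sca a]
  · rw [← CfsgLib.Char.IsClassFunction.apply_eq_of_isConj h.cls hx,
      ← CfsgLib.Char.IsClassFunction.apply_eq_of_isConj h'.cls hx, h.spl a b hab, h'.spl a b hab]
  · rw [← CfsgLib.Char.IsClassFunction.apply_eq_of_isConj h.cls hx,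
      ← CfsgLib.Char.IsClassFunction.apply_eq_of_isConj h'.cls hx, h.par a, h'.par a]
  · rw [← CfsgLib.Char.IsClassFunction.apply_eq_of_isConj h.cls hx,
      ← CfsgLib.Char.IsClassFunction.apply_eq_of_isConj h'.cls hx, h.tor s hs, h'.tor s hs]

theorem Vals.card_mul_inner (hc : NoEig (gm c)) (h : Vals c f sv dv pv tv)
    (h' : Vals c g sv' dv' pv' tv') :
    (Fintype.card (GL2 F) : ℂ) * Cfsg.classInner f g =
      ∑ a : Fˣ, sv a * conj (sv' a) +
      (Fintype.card F : ℂ) * ((Fintype.card F : ℂ) + 1) / 2 *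
        ∑ p ∈ regP F, dv p.1 p.2 * conj (dv' p.1 p.2) +
      ((Fintype.card F : ℂ) ^ 2 - 1) * ∑ a : Fˣ, pv a * conj (pv' a) +
      (Fintype.card F : ℂ) * ((Fintype.card F : ℂ) - 1) / 2 *
        ∑ y ∈ torReg c, tv y * conj (tv' y) := by
  rw [← Nat.card_eq_fintype_card, ← CfsgLib.Char.sum_eq_card_mul_classInner,
    sum_eq hc (f := fun x => f x * conj (g x)) fun x y => by rw [h.cls x y, h'.cls x y]]
  simp only [h.sca, h'.sca, h.par, h'.par,
    Finset.sum_congr rfl fun p hp => show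
      f (tri (Prod.fst p) (Prod.snd p) 0) * conj (g (tri (Prod.fst p) (Prod.snd p) 0)) =
        dv (Prod.fst p) (Prod.snd p) * conj (dv' (Prod.fst p) (Prod.snd p)) by
      rw [h.spl _ _ (mem_regP.1 hp), h'.spl _ _ (mem_regP.1 hp)],
    Finset.sum_congr rfl fun y hy => show f y * conj (g y) = tv y * conj (tv' y) by
      rw [h.tor y hy, h'.tor y hy]]

theorem R_vals (hc : NoEig (gm c)) (α β : Fˣ →* ℂˣ) :
    Vals c (R α β) (fun a => ((Fintype.card F : ℂ) + 1) * (ch α a * ch β a))
      (fun a b => ch α a * ch β b + ch α b * ch β a) (fun a => ch α a * ch β a) 0 :=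
  ⟨CfsgLib.Char.isClassFunction_indFun _ _, R_apply_sc α β, fun _ _ h => R_apply_split α β h,
    fun a => R_apply_par α β a one_ne_zero,
    fun _ hy => R_apply_noEig α β (noEig_of_mem_torReg hc hy)⟩

/-- A linear character through the determinant. -/
noncomputable def det1 (γ : Fˣ →* ℂˣ) : GL2 F → ℂ := fun g => ch γ (dt g)

theorem det1_isCharacter (γ : Fˣ →* ℂˣ) : Cfsg.IsCharacter (GL2 F) (det1 γ) :=
  CfsgLib.Char.isCharacter_ofHom (γ.comp dt)

theorem dt_tri (a b : Fˣ) (x : F) : dt (tri a b x) = a * b :=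
  Units.ext (by rw [coe_dt, (trace_det_tri a b x).2]; rfl)

theorem dt_sc (a : Fˣ) : dt (sc a) = a * a :=
  Units.ext (by rw [coe_dt, (trace_det_sc a).2]; rfl)

theorem dt_bar (y : GL2 F) : dt (bar y) = dt y :=
  Units.ext (by rw [coe_dt, coe_dt, (trace_det_bar y).2])

theorem det1_vals (c : GL2 F) (γ : Fˣ →* ℂˣ) :
    Vals c (det1 γ) (fun a => ch γ a * ch γ a) (fun a b => ch γ a * ch γ b)
      (fun a => ch γ a * ch γ a) (fun y => ch γ (dt y)) :=
  ⟨fun g h => by simp only [det1, map_mul, map_inv, ch]; congr 1; rw [mul_comm, inv_mul_cancel_left],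
    fun a => by simp [det1, dt_sc, ch], fun a b _ => by simp [det1, dt_tri, ch],
    fun a => by simp [det1, dt_tri, ch], fun _ _ => rfl⟩

/-! ### The torus characters -/

/-- A character of the torus, extended by zero. -/
noncomputable def th (θ : gtor c →* ℂˣ) (y : GL2 F) : ℂ :=
  if h : y ∈ gtor c then (θ ⟨y, h⟩ : ℂ) else 0

theorem th_coe (θ : gtor c →* ℂˣ) (y : gtor c) : th θ (y : GL2 F) = (θ y : ℂ) := by
  simp [th]

theorem th_mul (θ η : gtor c →* ℂˣ) (y : GL2 F) : th (θ * η) y = th θ y * th η y := by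
  unfold th; split_ifs <;> simp

theorem conj_th (θ : gtor c →* ℂˣ) (y : GL2 F) : conj (th θ y) = th θ⁻¹ y := by
  unfold th; split_ifs
  · exact CfsgLib.SL2C.conj_char θ _
  · simp

/-- The scalars inside the torus. -/
noncomputable def scT (c : GL2 F) : Fˣ →* gtor c :=
  (sc : Fˣ →* GL2 F).codRestrict (gtor c) (sc_mem_gtor c)

/-- The restriction to the scalars. -/
noncomputable abbrev res (θ : gtor c →* ℂˣ) : Fˣ →* ℂˣ := θ.comp (scT c)

theorem th_sc (θ : gtor c →* ℂˣ) (a : Fˣ) : th θ (sc a) = ch (res θ) a := th_coe θ (scT c a)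

/-- The conjugate character. -/
noncomputable abbrev conjT (hc : NoEig (gm c)) (θ : gtor c →* ℂˣ) : gtor c →* ℂˣ :=
  θ.comp (barHom hc)

theorem th_bar (hc : NoEig (gm c)) (θ : gtor c →* ℂˣ) (y : GL2 F) :
    th θ (bar y) = th (conjT hc θ) y := by
  by_cases h : y ∈ gtor c
  · exact (th_coe θ (barHom hc ⟨y, h⟩)).trans (th_coe (conjT hc θ) ⟨y, h⟩).symm
  · have h' : bar y ∉ gtor c := fun h' => h (bar_bar y ▸ bar_mem_gtor h')
    rw [th, th, dif_neg h, dif_neg h']

/-- The function induced from a character of the torus. -/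
noncomputable def T (θ : gtor c →* ℂˣ) : GL2 F → ℂ :=
  Cfsg.indFun (gtor c) fun y => (θ y : ℂ)

theorem T_isCharacter (θ : gtor c →* ℂˣ) : Cfsg.IsCharacter (GL2 F) (T θ) :=
  CfsgLib.Char.IsCharacter.indFun (CfsgLib.Char.isCharacter_ofHom θ)

theorem extend_gtor (θ : gtor c →* ℂˣ) (g : GL2 F) :
    Cfsg.extendByZero (gtor c) (fun y => (θ y : ℂ)) g = th θ g := by
  unfold th
  split_ifs with h
  · rw [CfsgLib.Char.extendByZero_of_mem _ h]
  · rw [CfsgLib.Char.extendByZero_of_not_mem _ h]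

theorem T_apply_sc (hc : NoEig (gm c)) (θ : gtor c →* ℂˣ) (a : Fˣ) :
    T θ (sc a) = (Fintype.card F : ℂ) * ((Fintype.card F : ℂ) - 1) * ch (res θ) a := by
  have hconj : ∀ x : GL2 F, x⁻¹ * sc a * x = sc a := fun x => by
    rw [mul_assoc, ← sc_comm, inv_mul_cancel_left]
  rw [T, CfsgLib.Char.indFun_def]
  simp only [hconj, extend_gtor, th_sc, Finset.sum_const, Finset.card_univ, nsmul_eq_mul]
  rw [Nat.card_eq_fintype_card, cast_card_gtor hc, cast_card_GL2,
    show (Fintype.card F : ℂ) ^ 2 - 1 =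
      ((Fintype.card F : ℂ) - 1) * ((Fintype.card F : ℂ) + 1) by ring]
  field_simp [q_sub_one_ne_zero' (F := F), q_add_one_ne_zero' (F := F)]

theorem T_apply_eq_zero (hc : NoEig (gm c)) (θ : gtor c →* ℂˣ) {g : GL2 F}
    (hg : ¬ NoEig (gm g)) (hs : ¬ IsScal (gm g)) : T θ g = 0 := by
  refine CfsgLib.Char.indFun_eq_zero _ fun x hx => hg ?_
  have hc1 : IsConj (x⁻¹ * g * x) g := isConj_iff.2 ⟨x, by group⟩
  refine noEig_of_isConj (noEig_of_mem_gtor hc hx fun h => hs ?_) hc1
  obtain ⟨a, ha⟩ := exists_sc_of_isScal h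
  rw [ha] at hc1
  rw [eq_of_isConj_sc hc1]
  exact isScal_sc a

theorem T_apply_tor (hc : NoEig (gm c)) (θ : gtor c →* ℂˣ) {y : GL2 F} (hy : y ∈ torReg c) :
    T θ y = th θ y + th θ (bar y) := by
  have hye := noEig_of_mem_torReg hc hy
  have hgt := gtor_eq_of_mem_torReg hc hy
  have hcb : IsConj y (bar y) := isConj_of_eq (mem_torReg.1 hy).2
    (mem_torReg.1 (bar_mem_torReg hy)).2 (trace_det_bar y).1.symm (trace_det_bar y).2.symm
  have hterm : ∀ x : GL2 F, th θ (x⁻¹ * y * x) =
      (if x⁻¹ * y * x = y then th θ y else 0) +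
      (if x⁻¹ * y * x = bar y then th θ (bar y) else 0) := by
    intro x
    by_cases h : x⁻¹ * y * x ∈ gtor c
    · obtain ⟨h1, h2⟩ := trace_eq_of_isConj
        (isConj_iff.2 ⟨x, by group⟩ : IsConj (x⁻¹ * y * x) y)
      rcases eq_or_eq_bar hc h (mem_torReg.1 hy).1 h1 h2 with e | e
      · rw [e, if_pos rfl, if_neg (Ne.symm (bar_ne_self hye)), add_zero]
      · rw [e, if_pos rfl, if_neg (bar_ne_self hye), zero_add]
    · have h1 : x⁻¹ * y * x ≠ y := fun e => h (by rw [e]; exact (mem_torReg.1 hy).1)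
      have h2 : x⁻¹ * y * x ≠ bar y :=
        fun e => h (by rw [e]; exact bar_mem_gtor (mem_torReg.1 hy).1)
      rw [if_neg h1, if_neg h2, add_zero, th, dif_neg h]
  rw [T, CfsgLib.Char.indFun_def]
  simp only [extend_gtor]
  rw [Finset.sum_congr rfl fun x _ => hterm x, Finset.sum_add_distrib,
    ← Finset.sum_filter, ← Finset.sum_filter, Finset.sum_const, Finset.sum_const,
    card_conj_eq (IsConj.refl y), card_conj_eq hcb,
    show Subgroup.centralizer ({y} : Set (GL2 F)) = gtor c from hgt, nsmul_eq_mul, nsmul_eq_mul,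
    ← mul_add, inv_mul_cancel_left₀ (Nat.cast_ne_zero.2 Nat.card_pos.ne')]

theorem T_vals (hc : NoEig (gm c)) (θ : gtor c →* ℂˣ) :
    Vals c (T θ) (fun a => (Fintype.card F : ℂ) * ((Fintype.card F : ℂ) - 1) * ch (res θ) a)
      0 0 (fun y => th θ y + th θ (bar y)) :=
  ⟨CfsgLib.Char.isClassFunction_indFun _ _, T_apply_sc hc θ,
    fun a b h => T_apply_eq_zero hc θ (not_noEig_tri a b 0) (tri_not_isScal (Or.inl h)),
    fun a => T_apply_eq_zero hc θ (not_noEig_tri a a 1) (tri_not_isScal (Or.inr one_ne_zero)),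
    fun _ hy => T_apply_tor hc θ hy⟩

end CfsgLib.GL2C
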