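import Cfsg.Agent.GL2C.Basic
import Cfsg.Agent.SL2C.SumFormula

/-!
GL₂ over a finite field: centralisers, and the sum of a class function type by type.
-/

set_option autoImplicit false
set_option linter.unusedSectionVars false
set_option linter.style.haveILetI false

namespace CfsgLib.GL2C

open Matrix Finset
open scoped Classical
open CfsgLib.SL2C (IsScal NoEig)

section General

variable {G : Type*} [Group G] [Fintype G] [DecidableEq G]

theorem card_conj_eq {s t : G} (h : IsConj s t) :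
    (univ.filter fun x : G => x⁻¹ * s * x = t).card =
      Nat.card (Subgroup.centralizer ({s} : Set G)) := by
  obtain ⟨y, hy⟩ := isConj_iff.1 h
  rw [Nat.card_eq_fintype_card, Fintype.card_subtype]
  refine Finset.card_equiv (Equiv.mulRight y) fun x => ?_
  simp only [Finset.mem_filter, Finset.mem_univ, true_and, Equiv.coe_mulRight,
    Subgroup.mem_centralizer_singleton_iff, ← hy]
  constructor
  · intro e
    have e' : (x * y) * s = s * (x * y) := by
      calc (x * y) * s = x * (y * s * y⁻¹) * y := by group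
        _ = s * (x * y) := by rw [← e]; group
    exact e'
  · intro e
    calc x⁻¹ * s * x = x⁻¹ * (s * (x * y)) * y⁻¹ := by group
      _ = y * s * y⁻¹ := by rw [← e]; group

theorem card_preimage (S : Finset G) (s : G) :
    (univ.filter fun x : G => x⁻¹ * s * x ∈ S).card =
      (S.filter fun t => IsConj s t).card * Nat.card (Subgroup.centralizer ({s} : Set G)) := by
  rw [Finset.card_eq_sum_card_fiberwise (f := fun x => x⁻¹ * s * x)
    (t := S.filter fun t => IsConj s t) (fun x hx => ?_)]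
  · refine Finset.sum_const_nat fun t ht => ?_
    rw [← card_conj_eq (Finset.mem_filter.1 ht).2, Finset.filter_filter]
    congr 1
    exact Finset.filter_congr fun x _ =>
      ⟨And.right, fun e => ⟨by rw [e]; exact (Finset.mem_filter.1 ht).1, e⟩⟩
  · simp only [Finset.coe_filter, Finset.mem_univ, true_and, Set.mem_setOf_eq] at hx ⊢
    exact ⟨hx, isConj_iff.2 ⟨x⁻¹, by group⟩⟩

end General

variable {F : Type*} [Field F]

theorem mem_centralizer_iff_gm {g x : GL2 F} :
    x ∈ Subgroup.centralizer ({g} : Set (GL2 F)) ↔ gm g * gm x = gm x * gm g :=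
  mem_gtor

theorem mem_centralizer_split {a b : Fˣ} (h : a ≠ b) {x : GL2 F} :
    x ∈ Subgroup.centralizer ({tri a b 0} : Set (GL2 F)) ↔ ∃ u v : Fˣ, x = tri u v 0 := by
  have hne : (a : F) - b ≠ 0 := sub_ne_zero.2 fun e => h (Units.ext e)
  rw [mem_centralizer_iff_gm]
  constructor
  · intro hx
    have h1 := congrFun (congrFun hx 0) 1
    have h2 := congrFun (congrFun hx 1) 0
    simp [gm_tri, Matrix.mul_apply, Fin.sum_univ_two] at h1 h2
    have h01 : gm x 0 1 = 0 := (mul_eq_zero.1 (show ((a : F) - b) * gm x 0 1 = 0 by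
      linear_combination h1)).resolve_left hne
    have h10 : gm x 1 0 = 0 := (mul_eq_zero.1 (show ((a : F) - b) * gm x 1 0 = 0 by
      linear_combination -h2)).resolve_left hne
    obtain ⟨u, v, y, rfl⟩ := exists_tri_of_apply h10
    simp [gm_tri] at h01
    exact ⟨u, v, by rw [h01]⟩
  · rintro ⟨u, v, rfl⟩
    simp [gm_tri, mul_comm]

theorem mem_centralizer_par {a b : Fˣ} {y : F} (hab : a = b) (hy : y ≠ 0) {x : GL2 F} :
    x ∈ Subgroup.centralizer ({tri a b y} : Set (GL2 F)) ↔ ∃ (u : Fˣ) (z : F), x = tri u u z := by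
  subst hab
  rw [mem_centralizer_iff_gm]
  constructor
  · intro hx
    have h1 := congrFun (congrFun hx 0) 1
    have h2 := congrFun (congrFun hx 1) 1
    simp [gm_tri, Matrix.mul_apply, Fin.sum_univ_two] at h1 h2
    have h10 : gm x 1 0 = 0 := (mul_eq_zero.1 (show y * gm x 1 0 = 0 by
      linear_combination -h2)).resolve_left hy
    obtain ⟨u, v, z, rfl⟩ := exists_tri_of_apply h10
    simp [gm_tri] at h1
    have huv : u = v := Units.ext (mul_left_cancel₀ hy (by linear_combination -h1))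
    exact ⟨u, z, by rw [huv]⟩
  · rintro ⟨u, z, rfl⟩
    ext i j
    fin_cases i <;> fin_cases j <;>
      simp [gm_tri, Matrix.mul_apply, Fin.sum_univ_two] <;> ring

theorem trace_det_sc (a : Fˣ) :
    (gm (sc a)).trace = (a : F) + a ∧ (gm (sc a)).det = (a : F) * a := by
  simp [gm_sc, pow_two, ← two_mul, mul_comm]

theorem eq_of_add_mul {a b a' b' : F} (h1 : a + b = a' + b') (h2 : a * b = a' * b') :
    (a' = a ∧ b' = b) ∨ (a' = b ∧ b' = a) := by
  have h : (a' - a) * (a' - b) = 0 := by linear_combination h2 - a' * h1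
  rcases mul_eq_zero.1 h with h | h
  · have e := sub_eq_zero.1 h
    exact Or.inl ⟨e, by linear_combination -h1 - e⟩
  · have e := sub_eq_zero.1 h
    exact Or.inr ⟨e, by linear_combination -h1 - e⟩

theorem eq_of_two_mul_sq {a b : F} (h1 : a + a = b + b) (h2 : a * a = b * b) : b = a := by
  rcases eq_of_add_mul h1 h2 with h | h <;> exact h.1

theorem isConj_split_iff {a b : Fˣ} (h : a ≠ b) {a' b' : Fˣ} :
    IsConj (tri a b 0) (tri a' b' 0) ↔ (a' = a ∧ b' = b) ∨ (a' = b ∧ b' = a) := by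
  constructor
  · intro e
    obtain ⟨ht, hd⟩ := trace_eq_of_isConj e
    rw [(trace_det_tri _ _ _).1, (trace_det_tri _ _ _).1] at ht
    rw [(trace_det_tri _ _ _).2, (trace_det_tri _ _ _).2] at hd
    simpa [Units.val_inj] using eq_of_add_mul ht hd
  · rintro (⟨rfl, rfl⟩ | ⟨rfl, rfl⟩)
    · exact IsConj.refl _
    · refine isConj_of_eq (tri_not_isScal (Or.inl h)) (tri_not_isScal (Or.inl (Ne.symm h))) ?_ ?_
      · simp [(trace_det_tri _ _ _).1, add_comm]
      · simp [(trace_det_tri _ _ _).2, mul_comm]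

theorem isConj_par {a : Fˣ} {x : F} (hx : x ≠ 0) : IsConj (tri a a 1) (tri a a x) :=
  isConj_of_eq (tri_not_isScal (Or.inr one_ne_zero)) (tri_not_isScal (Or.inr hx))
    (by simp [(trace_det_tri _ _ _).1]) (by simp [(trace_det_tri _ _ _).2])

theorem isConj_par_iff {a a' : Fˣ} : IsConj (tri a a 1) (tri a' a' 1) ↔ a' = a := by
  refine ⟨fun e => ?_, fun e => e ▸ IsConj.refl _⟩
  obtain ⟨ht, hd⟩ := trace_eq_of_isConj e
  rw [(trace_det_tri _ _ _).1, (trace_det_tri _ _ _).1] at ht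
  rw [(trace_det_tri _ _ _).2, (trace_det_tri _ _ _).2] at hd
  exact Units.ext (eq_of_two_mul_sq ht hd)

theorem eq_of_isConj_sc {a : Fˣ} {g : GL2 F} (h : IsConj (sc a) g) : g = sc a := by
  obtain ⟨x, rfl⟩ := isConj_iff.1 h
  rw [sc_comm, mul_inv_cancel_right]

theorem not_isConj_tri_sc {a b u : Fˣ} {x : F} (h : a ≠ b ∨ x ≠ 0) :
    ¬ IsConj (tri a b x) (sc u) := fun e =>
  tri_not_isScal h (eq_of_isConj_sc e.symm ▸ isScal_sc u)

theorem not_isConj_split_par {a b u : Fˣ} (h : a ≠ b) : ¬ IsConj (tri a b 0) (tri u u 1) := by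
  intro e
  obtain ⟨ht, hd⟩ := trace_eq_of_isConj e
  rw [(trace_det_tri _ _ _).1, (trace_det_tri _ _ _).1] at ht
  rw [(trace_det_tri _ _ _).2, (trace_det_tri _ _ _).2] at hd
  rcases eq_of_add_mul ht hd with ⟨e1, e2⟩ | ⟨e1, e2⟩ <;>
    exact h (Units.ext (by first | exact e1.symm.trans e2 | exact e2.symm.trans e1))

variable [Fintype F]

theorem card_centralizer_split {a b : Fˣ} (h : a ≠ b) :
    Nat.card (Subgroup.centralizer ({tri a b 0} : Set (GL2 F))) = (Fintype.card F - 1) ^ 2 := by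
  rw [← Nat.card_eq_of_bijective (fun p : Fˣ × Fˣ =>
    (⟨tri p.1 p.2 0, (mem_centralizer_split h).2 ⟨_, _, rfl⟩⟩ :
      Subgroup.centralizer ({tri a b 0} : Set (GL2 F)))) ⟨?_, ?_⟩, Nat.card_prod,
    Nat.card_eq_fintype_card, Fintype.card_units, sq]
  · intro p r e
    obtain ⟨e1, e2, -⟩ := tri_inj (congrArg Subtype.val e)
    exact Prod.ext e1 e2
  · rintro ⟨x, hx⟩
    obtain ⟨u, v, rfl⟩ := (mem_centralizer_split h).1 hx
    exact ⟨(u, v), rfl⟩

theorem card_centralizer_par (a : Fˣ) {y : F} (hy : y ≠ 0) :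
    Nat.card (Subgroup.centralizer ({tri a a y} : Set (GL2 F))) =
      (Fintype.card F - 1) * Fintype.card F := by
  rw [← Nat.card_eq_of_bijective (fun p : Fˣ × F =>
    (⟨tri p.1 p.1 p.2, (mem_centralizer_par rfl hy).2 ⟨_, _, rfl⟩⟩ :
      Subgroup.centralizer ({tri a a y} : Set (GL2 F)))) ⟨?_, ?_⟩, Nat.card_prod,
    Nat.card_eq_fintype_card, Nat.card_eq_fintype_card, Fintype.card_units]
  · intro p r e
    obtain ⟨e1, -, e2⟩ := tri_inj (congrArg Subtype.val e)
    exact Prod.ext e1 e2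
  · rintro ⟨x, hx⟩
    obtain ⟨u, z, rfl⟩ := (mem_centralizer_par rfl hy).1 hx
    exact ⟨(u, z), rfl⟩

/-! ### The four types -/

/-- Pairs of distinct units. -/
noncomputable def regP (F : Type*) [Field F] [Fintype F] : Finset (Fˣ × Fˣ) :=
  univ.filter fun p => p.1 ≠ p.2

theorem mem_regP {p : Fˣ × Fˣ} : p ∈ regP F ↔ p.1 ≠ p.2 := by simp [regP]

/-- The non-scalar elements of the torus. -/
noncomputable def torReg (c : GL2 F) : Finset (GL2 F) :=
  univ.filter fun y => y ∈ gtor c ∧ ¬ IsScal (gm y)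

theorem mem_torReg {c y : GL2 F} : y ∈ torReg c ↔ y ∈ gtor c ∧ ¬ IsScal (gm y) := by
  simp [torReg]

theorem noEig_of_mem_torReg {c y : GL2 F} (hc : NoEig (gm c)) (hy : y ∈ torReg c) :
    NoEig (gm y) :=
  noEig_of_mem_gtor hc (mem_torReg.1 hy).1 (mem_torReg.1 hy).2

theorem gtor_eq_of_mem_torReg {c y : GL2 F} (hc : NoEig (gm c)) (hy : y ∈ torReg c) :
    gtor y = gtor c :=
  gtor_eq_of_mem hc.not_isScal (mem_torReg.1 hy).1 (mem_torReg.1 hy).2

theorem bar_mem_torReg {c y : GL2 F} (hy : y ∈ torReg c) : bar y ∈ torReg c := by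
  refine mem_torReg.2 ⟨bar_mem_gtor (mem_torReg.1 hy).1, fun h => (mem_torReg.1 hy).2 ?_⟩
  obtain ⟨a, ha⟩ := exists_sc_of_isScal h
  rw [← bar_bar y, ha, bar_sc]
  exact isScal_sc a

theorem filter_isConj_torReg {c s : GL2 F} (hc : NoEig (gm c)) (hs : s ∈ torReg c) :
    (torReg c).filter (fun t => IsConj s t) = {s, bar s} := by
  ext t
  simp only [Finset.mem_filter, Finset.mem_insert, Finset.mem_singleton]
  constructor
  · rintro ⟨ht, e⟩
    obtain ⟨h1, h2⟩ := trace_eq_of_isConj e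
    exact eq_or_eq_bar hc (mem_torReg.1 ht).1 (mem_torReg.1 hs).1 h1.symm h2.symm
  · rintro (rfl | rfl)
    · exact ⟨hs, IsConj.refl _⟩
    · exact ⟨bar_mem_torReg hs, isConj_of_eq (mem_torReg.1 hs).2
        (mem_torReg.1 (bar_mem_torReg hs)).2 (trace_det_bar s).1.symm (trace_det_bar s).2.symm⟩

theorem sum_torReg {c : GL2 F} (φ : GL2 F → ℂ) :
    ∑ y ∈ torReg c, φ y = ∑ y : gtor c, φ y - ∑ a : Fˣ, φ (sc a) := by
  rw [eq_sub_iff_add_eq]
  have hz : (univ : Finset Fˣ).image (fun a => sc a) =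
      (univ.filter fun y => y ∈ gtor c).filter fun y => ¬ ¬ IsScal (gm y) := by
    ext y
    simp only [Finset.mem_image, Finset.mem_filter, Finset.mem_univ, true_and, not_not]
    constructor
    · rintro ⟨a, rfl⟩
      exact ⟨sc_mem_gtor c a, isScal_sc a⟩
    · rintro ⟨-, hy⟩
      obtain ⟨a, rfl⟩ := exists_sc_of_isScal hy
      exact ⟨a, rfl⟩
  have ht : torReg c = (univ.filter fun y => y ∈ gtor c).filter
      fun y => ¬ IsScal (gm y) := by
    ext y; simp [mem_torReg]
  rw [← Finset.sum_image (f := φ) (g := fun a => sc a) (s := univ)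
    fun a _ b _ h => sc_injective h, ht, hz, Finset.sum_filter_add_sum_filter_not]
  exact Finset.sum_subtype _ (fun y => by simp) _

theorem cast_units : (Fintype.card Fˣ : ℂ) = (Fintype.card F : ℂ) - 1 := by
  rw [Fintype.card_units, Nat.cast_sub Fintype.card_pos, Nat.cast_one]

theorem cast_card_gtor {c : GL2 F} (hc : NoEig (gm c)) :
    (Fintype.card (gtor c) : ℂ) = (Fintype.card F : ℂ) ^ 2 - 1 := by
  rw [← Nat.card_eq_fintype_card, card_gtor hc, Nat.cast_sub (Nat.one_le_pow _ _ Fintype.card_pos),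
    Nat.cast_pow, Nat.cast_one]

theorem cast_card_torReg {c : GL2 F} (hc : NoEig (gm c)) :
    ((torReg c).card : ℂ) = (Fintype.card F : ℂ) ^ 2 - Fintype.card F := by
  have h := sum_torReg (c := c) (fun _ => (1 : ℂ))
  simp only [Finset.sum_const, Finset.card_univ, nsmul_eq_mul, mul_one] at h
  rw [h, cast_card_gtor hc, cast_units]
  ring

theorem cast_card_GL2 : (Fintype.card (GL2 F) : ℂ) =
    (Fintype.card F : ℂ) * ((Fintype.card F : ℂ) - 1) ^ 2 * ((Fintype.card F : ℂ) + 1) := by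
  rw [← Nat.card_eq_fintype_card, card_GL2, Nat.cast_mul,
    Nat.cast_sub (Nat.one_le_pow _ _ Fintype.card_pos),
    Nat.cast_sub (Nat.le_self_pow two_ne_zero _)]
  push_cast
  ring

theorem sum_regP (h : Fˣ → Fˣ → ℂ) :
    ∑ p ∈ regP F, h p.1 p.2 = ∑ a, ∑ b, h a b - ∑ a, h a a := by
  have hd : ∑ a, h a a = ∑ p ∈ (univ : Finset (Fˣ × Fˣ)).filter (fun p => ¬ p.1 ≠ p.2),
      h p.1 p.2 := by
    refine Finset.sum_nbij' (s := (univ : Finset Fˣ)) (fun a => (a, a)) Prod.fst ?_ ?_ ?_ ?_ ?_ <;>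
      simp +contextual [Prod.ext_iff]
  rw [eq_sub_iff_add_eq, hd, regP, Finset.sum_filter_add_sum_filter_not,
    ← Finset.univ_product_univ, Finset.sum_product]

theorem cast_card_regP : ((regP F).card : ℂ) =
    ((Fintype.card F : ℂ) - 1) * ((Fintype.card F : ℂ) - 2) := by
  have h := sum_regP (F := F) (fun _ _ => (1 : ℂ))
  simp only [Finset.sum_const, Finset.card_univ, nsmul_eq_mul, mul_one] at h
  rw [h, cast_units]
  ring

theorem q_ne_zero' : (Fintype.card F : ℂ) ≠ 0 := Nat.cast_ne_zero.2 Fintype.card_ne_zero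

theorem q_sub_one_ne_zero' : (Fintype.card F : ℂ) - 1 ≠ 0 := by
  rw [sub_ne_zero]; exact_mod_cast (Fintype.one_lt_card (α := F)).ne'

theorem q_add_one_ne_zero' : (Fintype.card F : ℂ) + 1 ≠ 0 := Nat.cast_add_one_ne_zero _

/-- The elements conjugate to a member of `S`. -/
noncomputable def orb (S : Finset (GL2 F)) : Finset (GL2 F) :=
  univ.filter fun g => ∃ s ∈ S, IsConj s g

theorem mem_orb {S : Finset (GL2 F)} {g : GL2 F} : g ∈ orb S ↔ ∃ s ∈ S, IsConj s g := by
  simp [orb]

/-- The scalar elements. -/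
noncomputable def scFin (F : Type*) [Field F] [Fintype F] : Finset (GL2 F) :=
  (univ : Finset Fˣ).image fun a => sc a

/-- The split representatives. -/
noncomputable def splSet (F : Type*) [Field F] [Fintype F] : Finset (GL2 F) :=
  (regP F).image fun p => tri p.1 p.2 0

/-- The parabolic representatives. -/
noncomputable def parSet (F : Type*) [Field F] [Fintype F] : Finset (GL2 F) :=
  (univ : Finset Fˣ).image fun a => tri a a 1

theorem sum_orb_split {f : GL2 F → ℂ} (hf : ∀ g h, f (h * g * h⁻¹) = f g) :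
    ∑ g ∈ orb (splSet F), f g = (Fintype.card F : ℂ) * ((Fintype.card F : ℂ) + 1) / 2 *
      ∑ p ∈ regP F, f (tri p.1 p.2 0) := by
  have h := CfsgLib.SL2C.sum_conj_invariant (splSet F) (2 * (Fintype.card F - 1) ^ 2)
    (fun s hs => by
      obtain ⟨⟨a, b⟩, hp, rfl⟩ := Finset.mem_image.1 hs
      rw [mem_regP] at hp
      rw [card_preimage, card_centralizer_split hp]
      congr 1
      rw [show (splSet F).filter (fun t => IsConj (tri a b 0) t) = {tri a b 0, tri b a 0} from ?_,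
        Finset.card_pair fun e => hp (tri_inj e).1]
      ext t
      simp only [splSet, Finset.mem_filter, Finset.mem_image, mem_regP, Finset.mem_insert,
        Finset.mem_singleton]
      constructor
      · rintro ⟨⟨⟨a', b'⟩, -, rfl⟩, e⟩
        rcases (isConj_split_iff hp).1 e with ⟨rfl, rfl⟩ | ⟨rfl, rfl⟩ <;> simp
      · rintro (rfl | rfl)
        · exact ⟨⟨(a, b), hp, rfl⟩, IsConj.refl _⟩
        · exact ⟨⟨(b, a), Ne.symm hp, rfl⟩, (isConj_split_iff hp).2 (Or.inr ⟨rfl, rfl⟩)⟩)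
    f hf (orb (splSet F)) (fun g => mem_orb)
  rw [show ∑ s ∈ splSet F, f s = ∑ p ∈ regP F, f (tri p.1 p.2 0) from
    Finset.sum_image fun p _ r _ e => Prod.ext (tri_inj e).1 (tri_inj e).2.1] at h
  rw [Nat.cast_mul, Nat.cast_pow, Nat.cast_sub Fintype.card_pos, cast_card_GL2] at h
  push_cast at h
  have := q_sub_one_ne_zero' (F := F)
  apply mul_left_cancel₀ (mul_ne_zero (two_ne_zero : (2 : ℂ) ≠ 0) (pow_ne_zero 2 this))
  linear_combination h

theorem sum_orb_par {f : GL2 F → ℂ} (hf : ∀ g h, f (h * g * h⁻¹) = f g) :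
    ∑ g ∈ orb (parSet F), f g =
      ((Fintype.card F : ℂ) ^ 2 - 1) * ∑ a : Fˣ, f (tri a a 1) := by
  have h := CfsgLib.SL2C.sum_conj_invariant (parSet F) ((Fintype.card F - 1) * Fintype.card F)
    (fun s hs => by
      obtain ⟨a, -, rfl⟩ := Finset.mem_image.1 hs
      rw [card_preimage, card_centralizer_par a one_ne_zero,
        show (parSet F).filter (fun t => IsConj (tri a a 1) t) = {tri a a 1} from ?_,
        Finset.card_singleton, one_mul]
      ext t
      simp only [parSet, Finset.mem_filter, Finset.mem_image, Finset.mem_univ, true_and,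
        Finset.mem_singleton]
      constructor
      · rintro ⟨⟨a', rfl⟩, e⟩
        rw [isConj_par_iff.1 e]
      · rintro rfl
        exact ⟨⟨a, rfl⟩, IsConj.refl _⟩)
    f hf (orb (parSet F)) (fun g => mem_orb)
  rw [show ∑ s ∈ parSet F, f s = ∑ a : Fˣ, f (tri a a 1) from
    Finset.sum_image fun a _ b _ e => (tri_inj e).1] at h
  rw [Nat.cast_mul, Nat.cast_sub Fintype.card_pos, cast_card_GL2] at h
  push_cast at h
  apply mul_left_cancel₀ (mul_ne_zero (q_sub_one_ne_zero' (F := F)) (q_ne_zero' (F := F)))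
  linear_combination h

theorem sum_orb_tor {c : GL2 F} (hc : NoEig (gm c)) {f : GL2 F → ℂ}
    (hf : ∀ g h, f (h * g * h⁻¹) = f g) :
    ∑ g ∈ orb (torReg c), f g = (Fintype.card F : ℂ) * ((Fintype.card F : ℂ) - 1) / 2 *
      ∑ y ∈ torReg c, f y := by
  have h := CfsgLib.SL2C.sum_conj_invariant (torReg c) (2 * (Fintype.card F ^ 2 - 1))
    (fun s hs => by
      rw [card_preimage, filter_isConj_torReg hc hs,
        show Subgroup.centralizer ({s} : Set (GL2 F)) = gtor c from gtor_eq_of_mem_torReg hc hs,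
        card_gtor hc, Finset.card_pair fun e => bar_ne_self (noEig_of_mem_torReg hc hs) e.symm])
    f hf (orb (torReg c)) (fun g => mem_orb)
  rw [Nat.cast_mul, Nat.cast_sub (Nat.one_le_pow _ _ Fintype.card_pos), cast_card_GL2] at h
  push_cast at h
  have h0 : (Fintype.card F : ℂ) ^ 2 - 1 ≠ 0 := by
    rw [show (Fintype.card F : ℂ) ^ 2 - 1 =
      ((Fintype.card F : ℂ) - 1) * ((Fintype.card F : ℂ) + 1) by ring]
    exact mul_ne_zero q_sub_one_ne_zero' q_add_one_ne_zero'
  apply mul_left_cancel₀ (mul_ne_zero (two_ne_zero : (2 : ℂ) ≠ 0) h0)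
  linear_combination h

theorem cover {c : GL2 F} (hc : NoEig (gm c)) :
    Disjoint (scFin F) (orb (splSet F)) ∧
      Disjoint (scFin F ∪ orb (splSet F)) (orb (parSet F)) ∧
      Disjoint (scFin F ∪ orb (splSet F) ∪ orb (parSet F)) (orb (torReg c)) ∧
      scFin F ∪ orb (splSet F) ∪ orb (parSet F) ∪ orb (torReg c) = univ := by
  have hsc : ∀ {g}, g ∈ scFin F → ∃ a, g = sc a := fun {g} hg => by
    obtain ⟨a, -, rfl⟩ := Finset.mem_image.1 hg
    exact ⟨a, rfl⟩
  have hsp : ∀ {g}, g ∈ orb (splSet F) → ∃ a b, a ≠ b ∧ IsConj (tri a b 0) g := fun {g} hg => by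
    obtain ⟨s, hs, e⟩ := mem_orb.1 hg
    obtain ⟨⟨a, b⟩, hp, rfl⟩ := Finset.mem_image.1 hs
    exact ⟨a, b, mem_regP.1 hp, e⟩
  have hpa : ∀ {g}, g ∈ orb (parSet F) → ∃ a, IsConj (tri a a 1) g := fun {g} hg => by
    obtain ⟨s, hs, e⟩ := mem_orb.1 hg
    obtain ⟨a, -, rfl⟩ := Finset.mem_image.1 hs
    exact ⟨a, e⟩
  have d1 : Disjoint (scFin F) (orb (splSet F)) := by
    rw [Finset.disjoint_left]
    intro g hg hg'
    obtain ⟨u, rfl⟩ := hsc hg
    obtain ⟨a, b, hab, e⟩ := hsp hg'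
    exact not_isConj_tri_sc (Or.inl hab) e
  have d2 : Disjoint (scFin F ∪ orb (splSet F)) (orb (parSet F)) := by
    rw [Finset.disjoint_left]
    intro g hg hg'
    obtain ⟨u, e⟩ := hpa hg'
    rcases Finset.mem_union.1 hg with hg | hg
    · obtain ⟨a, rfl⟩ := hsc hg
      exact not_isConj_tri_sc (Or.inr one_ne_zero) e
    · obtain ⟨a, b, hab, e'⟩ := hsp hg
      exact not_isConj_split_par hab (e'.trans e.symm)
  have d3 : Disjoint (scFin F ∪ orb (splSet F) ∪ orb (parSet F)) (orb (torReg c)) := by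
    rw [Finset.disjoint_left]
    intro g hg hg'
    obtain ⟨s, hs, e⟩ := mem_orb.1 hg'
    have hg0 := noEig_of_isConj (noEig_of_mem_torReg hc hs) e
    simp only [Finset.mem_union] at hg
    rcases hg with (hg | hg) | hg
    · obtain ⟨a, rfl⟩ := hsc hg
      exact hg0.not_isScal (isScal_sc a)
    · obtain ⟨a, b, -, e'⟩ := hsp hg
      exact not_noEig_tri a b 0 (noEig_of_isConj hg0 e'.symm)
    · obtain ⟨a, e'⟩ := hpa hg
      exact not_noEig_tri a a 1 (noEig_of_isConj hg0 e'.symm)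
  refine ⟨d1, d2, d3, Finset.eq_univ_of_card _ ?_⟩
  rw [Finset.card_union_of_disjoint d3, Finset.card_union_of_disjoint d2,
    Finset.card_union_of_disjoint d1]
  apply Nat.cast_injective (R := ℂ)
  push_cast
  have hf : ∀ g h : GL2 F, (fun _ : GL2 F => (1 : ℂ)) (h * g * h⁻¹) = (fun _ => 1) g :=
    fun _ _ => rfl
  have e1 := sum_orb_split (F := F) (f := fun _ => (1 : ℂ)) hf
  have e2 := sum_orb_par (F := F) (f := fun _ => (1 : ℂ)) hf
  have e3 := sum_orb_tor hc (f := fun _ => (1 : ℂ)) hf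
  simp only [Finset.sum_const, Finset.card_univ, nsmul_eq_mul, mul_one, cast_card_regP,
    cast_card_torReg hc, cast_units] at e1 e2 e3
  have e0 : ((scFin F).card : ℂ) = (Fintype.card F : ℂ) - 1 := by
    rw [scFin, Finset.card_image_of_injective _ sc_injective, Finset.card_univ, cast_units]
  rw [e0, e1, e2, e3, cast_card_GL2]
  ring

/-- Every element without eigenvectors is conjugate into any given nonsplit torus. -/
theorem exists_isConj_torReg {c g : GL2 F} (hc : NoEig (gm c)) (hg : NoEig (gm g)) :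
    ∃ s ∈ torReg c, IsConj s g := by
  have h := Finset.mem_univ g
  rw [← (cover hc).2.2.2] at h
  simp only [Finset.mem_union] at h
  rcases h with ((h | h) | h) | h
  · obtain ⟨a, -, rfl⟩ := Finset.mem_image.1 h
    exact absurd (isScal_sc a) hg.not_isScal
  · obtain ⟨s, hs, e⟩ := mem_orb.1 h
    obtain ⟨⟨a, b⟩, -, rfl⟩ := Finset.mem_image.1 hs
    exact absurd (noEig_of_isConj hg e.symm) (not_noEig_tri a b 0)
  · obtain ⟨s, hs, e⟩ := mem_orb.1 h
    obtain ⟨a, -, rfl⟩ := Finset.mem_image.1 hs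
    exact absurd (noEig_of_isConj hg e.symm) (not_noEig_tri a a 1)
  · exact mem_orb.1 h

/-- The sum of a class function over GL₂, type by type. -/
theorem sum_eq {c : GL2 F} (hc : NoEig (gm c)) {f : GL2 F → ℂ}
    (hf : ∀ g h, f (h * g * h⁻¹) = f g) :
    ∑ g : GL2 F, f g = ∑ a : Fˣ, f (sc a) +
      (Fintype.card F : ℂ) * ((Fintype.card F : ℂ) + 1) / 2 *
        ∑ p ∈ regP F, f (tri p.1 p.2 0) +
      ((Fintype.card F : ℂ) ^ 2 - 1) * ∑ a : Fˣ, f (tri a a 1) +
      (Fintype.card F : ℂ) * ((Fintype.card F : ℂ) - 1) / 2 * ∑ y ∈ torReg c, f y := by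
  obtain ⟨d1, d2, d3, hu⟩ := cover hc
  rw [← hu, Finset.sum_union d3, Finset.sum_union d2, Finset.sum_union d1,
    sum_orb_split hf, sum_orb_par hf, sum_orb_tor hc hf, scFin,
    Finset.sum_image fun a _ b _ e => sc_injective e]

/-- Every element is scalar, split, parabolic, or conjugate into the given torus. -/
theorem cases4' {c : GL2 F} (hc : NoEig (gm c)) (g : GL2 F) :
    (∃ a : Fˣ, g = sc a) ∨ (∃ a b : Fˣ, a ≠ b ∧ IsConj (tri a b 0) g) ∨
      (∃ a : Fˣ, IsConj (tri a a 1) g) ∨ ∃ s ∈ torReg c, IsConj s g := by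
  rcases cases4 g with h | h | h | h
  · exact Or.inl h
  · exact Or.inr (Or.inl h)
  · exact Or.inr (Or.inr (Or.inl h))
  · exact Or.inr (Or.inr (Or.inr (exists_isConj_torReg hc h)))

end CfsgLib.GL2C
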