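import Cfsg.Agent.GL2C.Induced
import Cfsg.Agent.SL2C.Bridge

/-!
GL₂ over a finite field: the irreducible characters and their inner products.
-/

set_option autoImplicit false
set_option linter.unusedSectionVars false
set_option linter.style.haveILetI false

namespace CfsgLib.GL2C

open Matrix Finset
open scoped ComplexConjugate Classical
open CfsgLib.SL2C (IsScal NoEig ch dl dl_pos dl_neg dl_congr sum_char conj_char comm_tor
  dual_inv_inv dual_mul_eq_one card_dual sum_eq_two_nsmul_sum_image dg1 dg1_cast ne_of_inner_zero)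
open CfsgLib.Char (irrFinset mem_irrFinset classInner_sub_left classInner_sub_right classInner_conj)

variable {F : Type*} [Field F] [Fintype F] {c : GL2 F}

theorem dual_mul_comm {A : Type*} [Group A] (ψ φ : A →* ℂˣ) : ψ * φ = φ * ψ :=
  MonoidHom.ext fun a => by simp [mul_comm]

theorem sum_mul_conj {A : Type*} [Group A] [Fintype A] (ψ φ : A →* ℂˣ) :
    ∑ a : A, (ψ a : ℂ) * conj (φ a : ℂ) = (Fintype.card A : ℂ) * dl (ψ = φ) := by
  have h : ∀ a : A, (ψ a : ℂ) * conj (φ a : ℂ) = ((ψ * φ⁻¹) a : ℂ) := fun a => by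
    rw [conj_char, MonoidHom.mul_apply, Units.val_mul]
  rw [Finset.sum_congr rfl fun a _ => h a, sum_char]
  have : ψ * φ⁻¹ = 1 ↔ ψ = φ := by rw [dual_mul_eq_one, dual_inv_inv]
  simp only [dl, this, mul_ite, mul_one, mul_zero]

theorem dl_and (p r : Prop) : dl p * dl r = dl (p ∧ r) := by
  by_cases hp : p <;> by_cases hr : r <;> simp [dl, hp, hr]

theorem sum_ch (α β : Fˣ →* ℂˣ) :
    ∑ a : Fˣ, ch α a * conj (ch β a) = ((Fintype.card F : ℂ) - 1) * dl (α = β) := by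
  rw [sum_mul_conj, cast_units]

theorem sum_ch2 (α β α' β' : Fˣ →* ℂˣ) :
    ∑ a : Fˣ, (ch α a * ch β a) * conj (ch α' a * ch β' a) =
      ((Fintype.card F : ℂ) - 1) * dl (α * β = α' * β') := by
  rw [← sum_ch]
  exact Finset.sum_congr rfl fun a _ => by rw [CfsgLib.SL2C.ch_mul, CfsgLib.SL2C.ch_mul]

theorem sum_regP_mul (α β α' β' : Fˣ →* ℂˣ) :
    ∑ p ∈ regP F, (ch α p.1 * ch β p.2) * conj (ch α' p.1 * ch β' p.2) =
      ((Fintype.card F : ℂ) - 1) ^ 2 * dl (α = α' ∧ β = β') -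
        ((Fintype.card F : ℂ) - 1) * dl (α * β = α' * β') := by
  rw [sum_regP (fun a b => (ch α a * ch β b) * conj (ch α' a * ch β' b)), sum_ch2, ← dl_and]
  congr 1
  have h : ∀ a b : Fˣ, (ch α a * ch β b) * conj (ch α' a * ch β' b) =
      (ch α a * conj (ch α' a)) * (ch β b * conj (ch β' b)) := fun a b => by rw [map_mul]; ring
  simp only [h, ← Finset.mul_sum, ← Finset.sum_mul, sum_ch]
  ring

/-- The determinant on the torus. -/
noncomputable def dtT (c : GL2 F) : gtor c →* Fˣ := dt.comp (gtor c).subtype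

theorem dtT_surjective (hc : NoEig (gm c)) : Function.Surjective (dtT c) := by
  intro k
  obtain ⟨a, b, hab⟩ := hc.exists_det_eq (k : F)
  have hd : (a • (1 : Matrix (Fin 2) (Fin 2) F) + b • gm c).det ≠ 0 := by
    rw [hab]; exact k.ne_zero
  refine ⟨⟨mk _ hd, mem_gtor.2 (CfsgLib.SL2C.mul_comm_smul_add _ _ _)⟩, Units.ext ?_⟩
  show (gm (mk _ hd)).det = (k : F)
  rw [gm_mk, hab]

/-- A character of the torus through the determinant. -/
noncomputable abbrev viaDet (c : GL2 F) (γ : Fˣ →* ℂˣ) : gtor c →* ℂˣ := γ.comp (dtT c)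

theorem viaDet_inj (hc : NoEig (gm c)) {γ γ' : Fˣ →* ℂˣ} :
    viaDet c γ = viaDet c γ' ↔ γ = γ' := by
  refine ⟨fun h => MonoidHom.ext fun k => ?_, fun h => by rw [h]⟩
  obtain ⟨y, rfl⟩ := dtT_surjective hc k
  exact DFunLike.congr_fun h y

theorem ch_dt_eq_th {y : GL2 F} (hy : y ∈ gtor c) (γ : Fˣ →* ℂˣ) :
    ch γ (dt y) = th (viaDet c γ) y := (th_coe (viaDet c γ) ⟨y, hy⟩).symm

theorem res_viaDet (γ : Fˣ →* ℂˣ) : res (viaDet c γ) = γ * γ := by
  ext a
  simp [scT, dtT, dt_sc]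

theorem conjT_conjT (hc : NoEig (gm c)) (θ : gtor c →* ℂˣ) : conjT hc (conjT hc θ) = θ :=
  MonoidHom.ext fun y => congrArg θ (Subtype.ext (bar_bar y.1))

theorem conjT_eq_iff (hc : NoEig (gm c)) {θ η : gtor c →* ℂˣ} :
    conjT hc θ = η ↔ θ = conjT hc η :=
  ⟨fun h => by rw [← h, conjT_conjT], fun h => by rw [h, conjT_conjT]⟩

theorem conjT_viaDet (hc : NoEig (gm c)) (γ : Fˣ →* ℂˣ) :
    conjT hc (viaDet c γ) = viaDet c γ :=
  MonoidHom.ext fun y => congrArg γ (dt_bar y.1)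

theorem res_conjT (hc : NoEig (gm c)) (θ : gtor c →* ℂˣ) : res (conjT hc θ) = res θ :=
  MonoidHom.ext fun a => congrArg θ (Subtype.ext (bar_sc a))

theorem sum_tor_mul (hc : NoEig (gm c)) (θ η : gtor c →* ℂˣ) :
    ∑ y ∈ torReg c, th θ y * conj (th η y) =
      ((Fintype.card F : ℂ) ^ 2 - 1) * dl (θ = η) -
        ((Fintype.card F : ℂ) - 1) * dl (res θ = res η) := by
  rw [sum_torReg]
  simp only [th_coe, th_sc, sum_mul_conj, cast_card_gtor hc, cast_units]

theorem sum_tor_pair (hc : NoEig (gm c)) (θ η : gtor c →* ℂˣ) :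
    ∑ y ∈ torReg c, (th θ y + th θ (bar y)) * conj (th η y + th η (bar y)) =
      2 * ((Fintype.card F : ℂ) ^ 2 - 1) * (dl (θ = η) + dl (θ = conjT hc η)) -
        4 * ((Fintype.card F : ℂ) - 1) * dl (res θ = res η) := by
  simp only [th_bar hc, map_add, add_mul, mul_add, Finset.sum_add_distrib, sum_tor_mul hc,
    res_conjT]
  rw [dl_congr (conjT_eq_iff hc : conjT hc θ = η ↔ _),
    dl_congr (show conjT hc θ = conjT hc η ↔ θ = η by rw [conjT_eq_iff, conjT_conjT])]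
  ring

theorem sum_tor_single (hc : NoEig (gm c)) (θ : gtor c →* ℂˣ) (γ : Fˣ →* ℂˣ) :
    ∑ y ∈ torReg c, (th θ y + th θ (bar y)) * conj (ch γ (dt y)) =
      2 * ((Fintype.card F : ℂ) ^ 2 - 1) * dl (θ = viaDet c γ) -
        2 * ((Fintype.card F : ℂ) - 1) * dl (res θ = γ * γ) := by
  rw [Finset.sum_congr rfl fun y hy => show (th θ y + th θ (bar y)) * conj (ch γ (dt y)) =
    th θ y * conj (th (viaDet c γ) y) + th (conjT hc θ) y * conj (th (viaDet c γ) y) by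
      rw [ch_dt_eq_th (mem_torReg.1 hy).1, th_bar hc]; ring]
  simp only [Finset.sum_add_distrib, sum_tor_mul hc, res_conjT, res_viaDet]
  rw [dl_congr (show conjT hc θ = viaDet c γ ↔ θ = viaDet c γ by
    rw [conjT_eq_iff, conjT_viaDet])]
  ring

theorem sum_tor_det (hc : NoEig (gm c)) (γ γ' : Fˣ →* ℂˣ) :
    ∑ y ∈ torReg c, ch γ (dt y) * conj (ch γ' (dt y)) =
      ((Fintype.card F : ℂ) ^ 2 - 1) * dl (γ = γ') -
        ((Fintype.card F : ℂ) - 1) * dl (γ * γ = γ' * γ') := by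
  rw [Finset.sum_congr rfl fun y hy => show ch γ (dt y) * conj (ch γ' (dt y)) =
    th (viaDet c γ) y * conj (th (viaDet c γ') y) by
      rw [ch_dt_eq_th (mem_torReg.1 hy).1, ch_dt_eq_th (mem_torReg.1 hy).1],
    sum_tor_mul hc, res_viaDet, res_viaDet, dl_congr (viaDet_inj hc)]

/-! ### The characters -/

/-- The twisted Steinberg character. -/
noncomputable def St (γ : Fˣ →* ℂˣ) : GL2 F → ℂ := R γ γ - det1 γ

/-- The discrete series. -/
noncomputable def Pi' (θ : gtor c →* ℂˣ) : GL2 F → ℂ :=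
  St 1 * R (res θ) 1 - R (res θ) 1 - T θ

theorem St_vals (hc : NoEig (gm c)) (γ : Fˣ →* ℂˣ) :
    Vals c (St γ) (fun a => (Fintype.card F : ℂ) * (ch γ a * ch γ a))
      (fun a b => ch γ a * ch γ b) 0 (fun y => -ch γ (dt y)) := by
  refine ((R_vals hc γ γ).sub (det1_vals c γ)).congr (fun a => ?_) (fun a b _ => ?_) (fun a => ?_)
    (fun y _ => ?_) <;> simp [Pi.sub_apply] <;> ring

theorem Pi'_vals (hc : NoEig (gm c)) (θ : gtor c →* ℂˣ) :
    Vals c (Pi' θ) (fun a => ((Fintype.card F : ℂ) - 1) * ch (res θ) a) 0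
      (fun a => -ch (res θ) a) (fun y => -(th θ y + th θ (bar y))) := by
  refine ((((St_vals hc 1).mul (R_vals hc (res θ) 1)).sub (R_vals hc (res θ) 1)).sub
    (T_vals hc θ)).congr (fun a => ?_) (fun a b _ => ?_) (fun a => ?_) (fun y _ => ?_) <;>
    simp [Pi.sub_apply, Pi.mul_apply, CfsgLib.SL2C.ch_one] <;> ring

theorem St_isGeneralized (γ : Fˣ →* ℂˣ) : Cfsg.IsGeneralizedCharacter (GL2 F) (St γ) :=
  CfsgLib.Char.IsGeneralized.sub (CfsgLib.Char.IsCharacter.isGeneralized (R_isCharacter γ γ))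
    (CfsgLib.Char.IsCharacter.isGeneralized (det1_isCharacter γ))

theorem Pi'_isGeneralized (θ : gtor c →* ℂˣ) : Cfsg.IsGeneralizedCharacter (GL2 F) (Pi' θ) :=
  CfsgLib.Char.IsGeneralized.sub
    (CfsgLib.Char.IsGeneralized.sub
      (CfsgLib.Char.IsGeneralized.mul (St_isGeneralized 1)
        (CfsgLib.Char.IsCharacter.isGeneralized (R_isCharacter _ _)))
      (CfsgLib.Char.IsCharacter.isGeneralized (R_isCharacter _ _)))
    (CfsgLib.Char.IsCharacter.isGeneralized (T_isCharacter θ))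

theorem ch_apply_one (α : Fˣ →* ℂˣ) : ch α 1 = 1 := by rw [ch, map_one, Units.val_one]

theorem R_apply_one (α β : Fˣ →* ℂˣ) : R α β (1 : GL2 F) = (Fintype.card F : ℂ) + 1 := by
  rw [← map_one (sc : Fˣ →* GL2 F), R_apply_sc, ch_apply_one, ch_apply_one, mul_one, mul_one]

theorem det1_apply_one (γ : Fˣ →* ℂˣ) : det1 γ (1 : GL2 F) = 1 := by
  rw [det1, map_one, ch_apply_one]

theorem St_apply_one (γ : Fˣ →* ℂˣ) : St γ (1 : GL2 F) = (Fintype.card F : ℂ) := by
  rw [St, Pi.sub_apply, R_apply_one, det1_apply_one, add_sub_cancel_right]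

theorem Pi'_apply_one (hc : NoEig (gm c)) (θ : gtor c →* ℂˣ) :
    Pi' θ 1 = (Fintype.card F : ℂ) - 1 := by
  rw [(Pi'_vals hc θ).apply_one, ch_apply_one, mul_one]

theorem card_GL2_ne_zero : (Fintype.card (GL2 F) : ℂ) ≠ 0 :=
  Nat.cast_ne_zero.2 Fintype.card_ne_zero

/-! ### Inner products -/

theorem inner_R_R (hc : NoEig (gm c)) (α β α' β' : Fˣ →* ℂˣ) :
    Cfsg.classInner (R α β) (R α' β') =
      dl (α = α' ∧ β = β') + dl (α = β' ∧ β = α') := by
  apply mul_left_cancel₀ (card_GL2_ne_zero (F := F))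
  rw [Vals.card_mul_inner hc (R_vals hc α β) (R_vals hc α' β'), cast_card_GL2,
    Finset.sum_congr rfl fun a _ => show
      ((Fintype.card F : ℂ) + 1) * (ch α a * ch β a) *
          conj (((Fintype.card F : ℂ) + 1) * (ch α' a * ch β' a)) =
        ((Fintype.card F : ℂ) + 1) ^ 2 * ((ch α a * ch β a) * conj (ch α' a * ch β' a)) by
      simp only [map_mul, map_add, map_natCast, map_one]; ring,
    Finset.sum_congr rfl fun p _ => show
      (ch α (Prod.fst p) * ch β (Prod.snd p) + ch α (Prod.snd p) * ch β (Prod.fst p)) *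
          conj (ch α' (Prod.fst p) * ch β' (Prod.snd p) + ch α' (Prod.snd p) * ch β' (Prod.fst p)) =
        (ch α p.1 * ch β p.2) * conj (ch α' p.1 * ch β' p.2) +
        (ch α p.1 * ch β p.2) * conj (ch β' p.1 * ch α' p.2) +
        (ch β p.1 * ch α p.2) * conj (ch α' p.1 * ch β' p.2) +
        (ch β p.1 * ch α p.2) * conj (ch β' p.1 * ch α' p.2) by
      simp only [map_mul, map_add]; ring]
  simp only [Finset.sum_add_distrib, ← Finset.mul_sum, sum_regP_mul, sum_ch2, Pi.zero_apply,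
    zero_mul, Finset.sum_const_zero, mul_zero, add_zero]
  rw [dual_mul_comm β α, dual_mul_comm β' α',
    dl_congr (and_comm : β = α' ∧ α = β' ↔ α = β' ∧ β = α'),
    dl_congr (and_comm : β = β' ∧ α = α' ↔ α = α' ∧ β = β')]
  ring

theorem inner_R_det1 (hc : NoEig (gm c)) (α β γ : Fˣ →* ℂˣ) :
    Cfsg.classInner (R α β) (det1 γ) = dl (α = γ ∧ β = γ) := by
  apply mul_left_cancel₀ (card_GL2_ne_zero (F := F))
  rw [Vals.card_mul_inner hc (R_vals hc α β) (det1_vals c γ), cast_card_GL2,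
    Finset.sum_congr rfl fun a _ => show
      ((Fintype.card F : ℂ) + 1) * (ch α a * ch β a) * conj (ch γ a * ch γ a) =
        ((Fintype.card F : ℂ) + 1) * ((ch α a * ch β a) * conj (ch γ a * ch γ a)) by ring,
    Finset.sum_congr rfl fun p _ => show
      (ch α (Prod.fst p) * ch β (Prod.snd p) + ch α (Prod.snd p) * ch β (Prod.fst p)) *
          conj (ch γ (Prod.fst p) * ch γ (Prod.snd p)) =
        (ch α p.1 * ch β p.2) * conj (ch γ p.1 * ch γ p.2) +
        (ch β p.1 * ch α p.2) * conj (ch γ p.1 * ch γ p.2) by ring]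
  simp only [Finset.sum_add_distrib, ← Finset.mul_sum, sum_regP_mul, sum_ch2, Pi.zero_apply,
    zero_mul, Finset.sum_const_zero, mul_zero, add_zero]
  rw [dual_mul_comm β α, dl_congr (and_comm : β = γ ∧ α = γ ↔ α = γ ∧ β = γ)]
  ring

theorem inner_det1_det1 (hc : NoEig (gm c)) (γ γ' : Fˣ →* ℂˣ) :
    Cfsg.classInner (det1 γ : GL2 F → ℂ) (det1 γ') = dl (γ = γ') := by
  apply mul_left_cancel₀ (card_GL2_ne_zero (F := F))
  rw [Vals.card_mul_inner hc (det1_vals c γ) (det1_vals c γ'), cast_card_GL2, sum_ch2,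
    sum_regP_mul, sum_tor_det hc, dl_congr (and_self_iff : γ = γ' ∧ γ = γ' ↔ γ = γ')]
  ring

theorem inner_Pi'_Pi' (hc : NoEig (gm c)) (θ η : gtor c →* ℂˣ) :
    Cfsg.classInner (Pi' θ) (Pi' η) = dl (θ = η) + dl (θ = conjT hc η) := by
  apply mul_left_cancel₀ (card_GL2_ne_zero (F := F))
  rw [Vals.card_mul_inner hc (Pi'_vals hc θ) (Pi'_vals hc η), cast_card_GL2,
    Finset.sum_congr rfl fun a _ => show
      ((Fintype.card F : ℂ) - 1) * ch (res θ) a *
          conj (((Fintype.card F : ℂ) - 1) * ch (res η) a) =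
        ((Fintype.card F : ℂ) - 1) ^ 2 * (ch (res θ) a * conj (ch (res η) a)) by
      simp only [map_mul, map_sub, map_natCast, map_one]; ring]
  simp only [Pi.zero_apply, zero_mul, Finset.sum_const_zero, mul_zero, add_zero, map_neg,
    neg_mul_neg, ← Finset.mul_sum, sum_ch, sum_tor_pair hc]
  ring

theorem inner_R_Pi' (hc : NoEig (gm c)) (α β : Fˣ →* ℂˣ) (θ : gtor c →* ℂˣ) :
    Cfsg.classInner (R α β) (Pi' θ) = 0 := by
  apply mul_left_cancel₀ (card_GL2_ne_zero (F := F))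
  rw [Vals.card_mul_inner hc (R_vals hc α β) (Pi'_vals hc θ),
    Finset.sum_congr rfl fun a _ => show
      ((Fintype.card F : ℂ) + 1) * (ch α a * ch β a) *
          conj (((Fintype.card F : ℂ) - 1) * ch (res θ) a) =
        ((Fintype.card F : ℂ) + 1) * ((Fintype.card F : ℂ) - 1) *
          (ch α a * ch β a * conj (ch (res θ) a)) by
      simp only [map_mul, map_sub, map_natCast, map_one]; ring,
    Finset.sum_congr rfl fun a _ => show
      ch α a * ch β a * conj (-ch (res θ) a) = -(ch α a * ch β a * conj (ch (res θ) a)) by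
      rw [map_neg]; ring]
  simp only [Pi.zero_apply, map_zero, zero_mul, mul_zero, Finset.sum_const_zero, add_zero,
    Finset.sum_neg_distrib, ← Finset.mul_sum]
  ring

theorem inner_Pi'_det1 (hc : NoEig (gm c)) (θ : gtor c →* ℂˣ) (γ : Fˣ →* ℂˣ) :
    Cfsg.classInner (Pi' θ) (det1 γ) = -dl (θ = viaDet c γ) := by
  apply mul_left_cancel₀ (card_GL2_ne_zero (F := F))
  rw [Vals.card_mul_inner hc (Pi'_vals hc θ) (det1_vals c γ), cast_card_GL2,
    Finset.sum_congr rfl fun a _ => show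
      ((Fintype.card F : ℂ) - 1) * ch (res θ) a * conj (ch γ a * ch γ a) =
        ((Fintype.card F : ℂ) - 1) * (ch (res θ) a * conj (ch (γ * γ) a)) by
      rw [CfsgLib.SL2C.ch_mul]; ring,
    Finset.sum_congr rfl fun a _ => show
      -ch (res θ) a * conj (ch γ a * ch γ a) = -(ch (res θ) a * conj (ch (γ * γ) a)) by
      rw [CfsgLib.SL2C.ch_mul]; ring]
  simp only [Pi.zero_apply, zero_mul, Finset.sum_const_zero, mul_zero, add_zero, neg_mul,
    Finset.sum_neg_distrib, ← Finset.mul_sum, sum_ch, sum_tor_single hc]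
  ring

theorem inner_St_det1 (hc : NoEig (gm c)) (γ γ' : Fˣ →* ℂˣ) :
    Cfsg.classInner (St γ : GL2 F → ℂ) (det1 γ') = 0 := by
  rw [St, classInner_sub_left, inner_R_det1 hc, inner_det1_det1 hc,
    dl_congr (and_self_iff : γ = γ' ∧ γ = γ' ↔ γ = γ'), sub_self]

theorem inner_St_R (hc : NoEig (gm c)) (γ α β : Fˣ →* ℂˣ) :
    Cfsg.classInner (St γ : GL2 F → ℂ) (R α β) = dl (α = γ ∧ β = γ) := by
  rw [St, classInner_sub_left, inner_R_R hc, ← classInner_conj (R α β) (det1 γ), inner_R_det1 hc,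
    dl_congr (show γ = α ∧ γ = β ↔ α = γ ∧ β = γ by constructor <;> rintro ⟨h1, h2⟩ <;>
      exact ⟨h1.symm, h2.symm⟩),
    dl_congr (show γ = β ∧ γ = α ↔ α = γ ∧ β = γ by constructor <;> rintro ⟨h1, h2⟩ <;>
      exact ⟨h2.symm, h1.symm⟩)]
  unfold dl
  split_ifs <;> simp

theorem inner_St_St (hc : NoEig (gm c)) (γ γ' : Fˣ →* ℂˣ) :
    Cfsg.classInner (St γ : GL2 F → ℂ) (St γ') = dl (γ = γ') := by
  conv_lhs => arg 2; rw [St]
  rw [classInner_sub_right, inner_St_R hc, inner_St_det1 hc, sub_zero]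
  exact dl_congr ⟨fun h => h.1.symm, fun h => ⟨h.symm, h.symm⟩⟩

theorem inner_St_Pi' (hc : NoEig (gm c)) (γ : Fˣ →* ℂˣ) (θ : gtor c →* ℂˣ) :
    Cfsg.classInner (St γ) (Pi' θ) = dl (θ = viaDet c γ) := by
  rw [St, classInner_sub_left, inner_R_Pi' hc, ← classInner_conj (Pi' θ) (det1 γ),
    inner_Pi'_det1 hc]
  unfold dl
  split_ifs <;> simp

/-! ### Irreducibility -/

theorem isIrr_of_norm_one {φ : GL2 F → ℂ} (hφ : Cfsg.IsGeneralizedCharacter (GL2 F) φ)
    (h1 : Cfsg.classInner φ φ = 1) {n : ℕ} (hn : φ 1 = n) :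
    Cfsg.IsIrrCharacter (GL2 F) φ := by
  refine (CfsgLib.Char.IsGeneralized.isIrr_or_neg hφ h1).resolve_right fun h => ?_
  obtain ⟨d, hd0, hd, -⟩ := dg1_cast h
  have h2 : ((d + n : ℕ) : ℂ) = 0 := by
    push_cast; rw [← hd, Pi.neg_apply, hn]; ring
  have h3 := Nat.cast_eq_zero.1 h2
  omega

theorem isIrr_det1 (γ : Fˣ →* ℂˣ) : Cfsg.IsIrrCharacter (GL2 F) (det1 γ) := by
  obtain ⟨c, hc⟩ := exists_noEig (F := F)
  exact isIrr_of_norm_one (CfsgLib.Char.IsCharacter.isGeneralized (det1_isCharacter γ))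
    ((inner_det1_det1 hc γ γ).trans (dl_pos rfl)) (n := 1) (by rw [det1_apply_one]; simp)

theorem isIrr_St (γ : Fˣ →* ℂˣ) : Cfsg.IsIrrCharacter (GL2 F) (St γ) := by
  obtain ⟨c, hc⟩ := exists_noEig (F := F)
  exact isIrr_of_norm_one (St_isGeneralized γ) ((inner_St_St hc γ γ).trans (dl_pos rfl))
    (St_apply_one γ)

theorem isIrr_R {α β : Fˣ →* ℂˣ} (h : α ≠ β) : Cfsg.IsIrrCharacter (GL2 F) (R α β) := by
  obtain ⟨c, hc⟩ := exists_noEig (F := F)
  refine isIrr_of_norm_one (CfsgLib.Char.IsCharacter.isGeneralized (R_isCharacter α β)) ?_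
    (n := Fintype.card F + 1) (by rw [R_apply_one]; simp)
  rw [inner_R_R hc, dl_pos ⟨rfl, rfl⟩, dl_neg fun e => h e.1, add_zero]

theorem isIrr_Pi' (hc : NoEig (gm c)) {θ : gtor c →* ℂˣ} (h : conjT hc θ ≠ θ) :
    Cfsg.IsIrrCharacter (GL2 F) (Pi' θ) := by
  refine isIrr_of_norm_one (Pi'_isGeneralized θ) ?_ (n := Fintype.card F - 1)
    (by rw [Pi'_apply_one hc, Nat.cast_sub Fintype.card_pos, Nat.cast_one])
  rw [inner_Pi'_Pi' hc, dl_pos rfl, dl_neg fun e => h ((conjT_eq_iff hc).2 e), add_zero]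

theorem R_comm (α β : Fˣ →* ℂˣ) : (R α β : GL2 F → ℂ) = R β α := by
  obtain ⟨c, hc⟩ := exists_noEig (F := F)
  exact Vals.eq_of hc ((R_vals hc α β).congr (fun a => by rw [mul_comm (ch α a)])
    (fun a b _ => by ring) (fun a => mul_comm _ _) fun _ _ => rfl) (R_vals hc β α)

theorem R_eq_R_iff {α β α' β' : Fˣ →* ℂˣ} :
    (R α β : GL2 F → ℂ) = R α' β' ↔ (α = α' ∧ β = β') ∨ (α = β' ∧ β = α') := by
  obtain ⟨c, hc⟩ := exists_noEig (F := F)
  constructor
  · intro h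
    have h1 := inner_R_R hc α β α' β'
    rw [← h, inner_R_R hc, dl_pos ⟨rfl, rfl⟩] at h1
    by_contra hcon
    push Not at hcon
    have n1 : ¬ (α = α' ∧ β = β') := fun e => hcon.1 e.1 e.2
    have n2 : ¬ (α = β' ∧ β = α') := fun e => hcon.2 e.1 e.2
    rw [dl_neg n1, dl_neg n2, dl] at h1
    split_ifs at h1 <;> norm_num at h1
  · rintro (⟨rfl, rfl⟩ | ⟨rfl, rfl⟩)
    · rfl
    · exact R_comm _ _

theorem Pi'_conjT (hc : NoEig (gm c)) (θ : gtor c →* ℂˣ) : Pi' (conjT hc θ) = Pi' θ :=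
  Vals.eq_of hc ((Pi'_vals hc (conjT hc θ)).congr (fun a => by rw [res_conjT])
    (fun _ _ _ => rfl) (fun a => by rw [res_conjT])
    (fun y _ => by rw [th_bar hc (conjT hc θ), conjT_conjT, ← th_bar hc, add_comm]))
    (Pi'_vals hc θ)

theorem Pi'_eq_Pi'_iff (hc : NoEig (gm c)) {θ η : gtor c →* ℂˣ} :
    Pi' η = Pi' θ ↔ η = θ ∨ η = conjT hc θ := by
  constructor
  · intro h
    have h1 := inner_Pi'_Pi' hc η θ
    rw [h, inner_Pi'_Pi' hc, dl_pos rfl] at h1
    by_contra hcon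
    push Not at hcon
    rw [dl_neg hcon.1, dl_neg hcon.2, dl] at h1
    split_ifs at h1 <;> norm_num at h1
  · rintro (rfl | rfl)
    · rfl
    · exact Pi'_conjT hc θ

/-! ### The complete list -/

/-- Pairs of distinct characters. -/
noncomputable def AR (F : Type*) [Field F] [Fintype F] : Finset ((Fˣ →* ℂˣ) × (Fˣ →* ℂˣ)) :=
  univ.filter fun p => p.1 ≠ p.2

theorem mem_AR {p : (Fˣ →* ℂˣ) × (Fˣ →* ℂˣ)} : p ∈ AR F ↔ p.1 ≠ p.2 := by simp [AR]

/-- The regular characters of the torus. -/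
noncomputable def AT (hc : NoEig (gm c)) : Finset (gtor c →* ℂˣ) :=
  univ.filter fun θ => conjT hc θ ≠ θ

theorem mem_AT (hc : NoEig (gm c)) {θ : gtor c →* ℂˣ} : θ ∈ AT hc ↔ conjT hc θ ≠ θ := by
  simp [AT]

theorem comm_gtor (hc : NoEig (gm c)) (a b : gtor c) : a * b = b * a :=
  Subtype.ext (gtor_comm hc.not_isScal a.2 b.2)

theorem card_dual_units' : (Fintype.card (Fˣ →* ℂˣ) : ℂ) = (Fintype.card F : ℂ) - 1 := by
  rw [card_dual mul_comm, cast_units]

theorem cast_card_AR : ((AR F).card : ℂ) =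
    ((Fintype.card F : ℂ) - 1) * ((Fintype.card F : ℂ) - 2) := by
  have h := Finset.card_filter_add_card_filter_not
    (s := (univ : Finset ((Fˣ →* ℂˣ) × (Fˣ →* ℂˣ)))) (fun p => p.1 ≠ p.2)
  have hd : ((univ : Finset ((Fˣ →* ℂˣ) × (Fˣ →* ℂˣ))).filter fun p => ¬ p.1 ≠ p.2).card =
      Fintype.card (Fˣ →* ℂˣ) := by
    rw [← Finset.card_univ]
    refine Finset.card_nbij' Prod.fst (fun a => (a, a)) ?_ ?_ ?_ ?_ <;>
      simp +contextual [Set.MapsTo, Set.LeftInvOn, Prod.ext_iff]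
  rw [hd, Finset.card_univ, Fintype.card_prod] at h
  have h' : ((AR F).card : ℂ) + (Fintype.card (Fˣ →* ℂˣ) : ℂ) =
      (Fintype.card (Fˣ →* ℂˣ) : ℂ) * (Fintype.card (Fˣ →* ℂˣ) : ℂ) := by
    rw [AR]; exact_mod_cast h
  rw [card_dual_units'] at h'
  linear_combination h'

/-- A character of the torus fixed by conjugation factors through the determinant. -/
theorem exists_viaDet (hc : NoEig (gm c)) {θ : gtor c →* ℂˣ} (h : conjT hc θ = θ) :
    ∃ γ : Fˣ →* ℂˣ, θ = viaDet c γ := by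
  let ψ : gtor c →* gtor c :=
    { toFun := fun y => y⁻¹ * barHom hc y
      map_one' := by simp
      map_mul' := fun x y => by
        rw [map_mul, _root_.mul_inv_rev, comm_gtor hc y⁻¹ x⁻¹, mul_assoc, mul_assoc,
          ← mul_assoc y⁻¹, comm_gtor hc y⁻¹, mul_assoc] }
  have hle : ψ.range ≤ (dtT c).ker := by
    rintro _ ⟨y, rfl⟩
    rw [MonoidHom.mem_ker]
    show dtT c (y⁻¹ * barHom hc y) = 1
    rw [map_mul, map_inv, show dtT c (barHom hc y) = dtT c y from dt_bar y.1, inv_mul_cancel]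
  have hker : ψ.ker = (scT c).range := by
    ext y
    rw [MonoidHom.mem_ker, MonoidHom.mem_range]
    change y⁻¹ * barHom hc y = 1 ↔ _
    rw [inv_mul_eq_one]
    constructor
    · intro e
      have hy : IsScal (gm y.1) := by
        by_contra hs
        exact bar_ne_self (noEig_of_mem_gtor hc y.2 hs) (congrArg Subtype.val e).symm
      obtain ⟨a, ha⟩ := exists_sc_of_isScal hy
      exact ⟨a, Subtype.ext ha.symm⟩
    · rintro ⟨a, rfl⟩
      exact (Subtype.ext (bar_sc a)).symm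
  have e1 := ψ.ker.card_mul_index
  rw [Subgroup.index_ker, hker, ← Nat.card_congr (MonoidHom.ofInjective
    (fun a b e => sc_injective (congrArg Subtype.val e) :
      Function.Injective (scT c))).toEquiv] at e1
  have e2 := (dtT c).ker.card_mul_index
  rw [Subgroup.index_ker, MonoidHom.range_eq_top.2 (dtT_surjective hc), Subgroup.card_top] at e2
  have heq : ψ.range = (dtT c).ker := by
    refine Subgroup.eq_of_le_of_card_ge hle (le_of_eq ?_)
    refine Nat.eq_of_mul_eq_mul_left (Nat.card_pos (α := Fˣ)) ?_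
    rw [e1, mul_comm, e2]
  have hθ : (dtT c).ker ≤ θ.ker := by
    rw [← heq]
    rintro _ ⟨y, rfl⟩
    rw [MonoidHom.mem_ker]
    show θ (y⁻¹ * barHom hc y) = 1
    rw [map_mul, map_inv, show θ (barHom hc y) = θ y from DFunLike.congr_fun h y, inv_mul_cancel]
  exact ⟨(dtT c).liftOfSurjective (dtT_surjective hc) ⟨θ, hθ⟩,
    ((dtT c).liftOfRightInverse_comp _ (Function.surjInv_eq _) ⟨θ, hθ⟩).symm⟩

theorem cast_card_AT (hc : NoEig (gm c)) :
    ((AT hc).card : ℂ) = (Fintype.card F : ℂ) ^ 2 - Fintype.card F := by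
  have h := Finset.card_filter_add_card_filter_not
    (s := (univ : Finset (gtor c →* ℂˣ))) (fun θ => conjT hc θ = θ)
  have hd : ((univ : Finset (gtor c →* ℂˣ)).filter fun θ => conjT hc θ = θ).card =
      Fintype.card (Fˣ →* ℂˣ) := by
    rw [show ((univ : Finset (gtor c →* ℂˣ)).filter fun θ => conjT hc θ = θ) =
      univ.image (viaDet c) from ?_, Finset.card_image_of_injective _ fun a b e => (viaDet_inj hc).1 e,
      Finset.card_univ]
    ext θ
    simp only [Finset.mem_filter, Finset.mem_univ, true_and, Finset.mem_image]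
    exact ⟨fun e => (exists_viaDet hc e).imp fun γ hγ => hγ.symm,
      fun ⟨γ, hγ⟩ => hγ ▸ conjT_viaDet hc γ⟩
  rw [hd, Finset.card_univ, card_dual (comm_gtor hc)] at h
  have h' : (Fintype.card (Fˣ →* ℂˣ) : ℂ) + ((AT hc).card : ℂ) = (Fintype.card (gtor c) : ℂ) := by
    rw [AT]; exact_mod_cast h
  rw [card_dual_units', cast_card_gtor hc] at h'
  linear_combination h'

/-- The list of irreducible characters. -/
noncomputable def L0 (hc : NoEig (gm c)) : Finset (GL2 F → ℂ) :=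
  (univ.image det1 ∪ univ.image St) ∪ ((AR F).image (fun p => R p.1 p.2) ∪ (AT hc).image Pi')

theorem mem_L0 (hc : NoEig (gm c)) {χ : GL2 F → ℂ} : χ ∈ L0 hc ↔
    (∃ γ, χ = det1 γ) ∨ (∃ γ, χ = St γ) ∨ (∃ α β, α ≠ β ∧ χ = R α β) ∨
      ∃ θ, conjT hc θ ≠ θ ∧ χ = Pi' θ := by
  simp only [L0, Finset.mem_union, Finset.mem_image, Finset.mem_univ, true_and, mem_AR, mem_AT,
    Prod.exists, eq_comm (b := χ), or_assoc]

theorem isIrr_of_mem_L0 (hc : NoEig (gm c)) {χ : GL2 F → ℂ} (h : χ ∈ L0 hc) :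
    Cfsg.IsIrrCharacter (GL2 F) χ := by
  rcases (mem_L0 hc).1 h with ⟨γ, rfl⟩ | ⟨γ, rfl⟩ | ⟨α, β, hab, rfl⟩ | ⟨θ, hθ, rfl⟩
  exacts [isIrr_det1 γ, isIrr_St γ, isIrr_R hab, isIrr_Pi' hc hθ]

theorem ne_viaDet (hc : NoEig (gm c)) {θ : gtor c →* ℂˣ} (h : conjT hc θ ≠ θ) (γ : Fˣ →* ℂˣ) :
    θ ≠ viaDet c γ := fun e => h (e ▸ conjT_viaDet hc γ)

theorem sum_L0 (hc : NoEig (gm c)) {M : Type*} [AddCommMonoid M] (g : (GL2 F → ℂ) → M) :
    2 • ∑ χ ∈ L0 hc, g χ =
      2 • ∑ γ : Fˣ →* ℂˣ, g (det1 γ) + 2 • ∑ γ : Fˣ →* ℂˣ, g (St γ) +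
        ∑ p ∈ AR F, g (R p.1 p.2) + ∑ θ ∈ AT hc, g (Pi' θ) := by
  have d1 : Disjoint ((univ : Finset (Fˣ →* ℂˣ)).image (det1 : _ → GL2 F → ℂ))
      ((univ : Finset (Fˣ →* ℂˣ)).image St) := by
    rw [Finset.disjoint_left]
    intro χ hχ hχ'
    obtain ⟨γ, -, rfl⟩ := Finset.mem_image.1 hχ
    obtain ⟨γ', -, h⟩ := Finset.mem_image.1 hχ'
    exact ne_of_inner_zero (isIrr_det1 γ) (inner_St_det1 hc γ' γ) h
  have d2 : Disjoint ((AR F).image (fun p => (R p.1 p.2 : GL2 F → ℂ))) ((AT hc).image Pi') := by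
    rw [Finset.disjoint_left]
    intro χ hχ hχ'
    obtain ⟨p, hp, rfl⟩ := Finset.mem_image.1 hχ
    obtain ⟨θ, hθ, h⟩ := Finset.mem_image.1 hχ'
    exact ne_of_inner_zero (isIrr_Pi' hc ((mem_AT hc).1 hθ)) (inner_R_Pi' hc p.1 p.2 θ) h.symm
  have d3 : Disjoint ((univ : Finset (Fˣ →* ℂˣ)).image (det1 : _ → GL2 F → ℂ) ∪ univ.image St)
      ((AR F).image (fun p => R p.1 p.2) ∪ (AT hc).image Pi') := by
    rw [Finset.disjoint_left]
    intro χ hχ hχ'
    simp only [Finset.mem_union, Finset.mem_image, Finset.mem_univ, true_and] at hχ hχ'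
    rcases hχ with ⟨γ, rfl⟩ | ⟨γ, rfl⟩ <;> rcases hχ' with ⟨p, hp, h⟩ | ⟨θ, hθ, h⟩
    · exact ne_of_inner_zero (isIrr_det1 γ) ((inner_R_det1 hc p.1 p.2 γ).trans
        (dl_neg fun e => mem_AR.1 hp (e.1.trans e.2.symm))) h
    · exact ne_of_inner_zero (isIrr_det1 γ) ((inner_Pi'_det1 hc θ γ).trans
        (by rw [dl_neg (ne_viaDet hc ((mem_AT hc).1 hθ) γ), neg_zero])) h
    · exact ne_of_inner_zero (isIrr_R (mem_AR.1 hp)) ((inner_St_R hc γ p.1 p.2).trans
        (dl_neg fun e => mem_AR.1 hp (e.1.trans e.2.symm))) h.symm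
    · exact ne_of_inner_zero (isIrr_Pi' hc ((mem_AT hc).1 hθ)) ((inner_St_Pi' hc γ θ).trans
        (dl_neg (ne_viaDet hc ((mem_AT hc).1 hθ) γ))) h.symm
  have i1 : Function.Injective (det1 : (Fˣ →* ℂˣ) → GL2 F → ℂ) := fun a b e => by
    by_contra hne
    exact ne_of_inner_zero (isIrr_det1 b) ((inner_det1_det1 hc a b).trans (dl_neg hne)) e
  have i2 : Function.Injective (St : (Fˣ →* ℂˣ) → GL2 F → ℂ) := fun a b e => by
    by_contra hne
    exact ne_of_inner_zero (isIrr_St b) ((inner_St_St hc a b).trans (dl_neg hne)) e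
  have f1 : ∀ p ∈ AR F, ((AR F).filter fun r => (R r.1 r.2 : GL2 F → ℂ) = R p.1 p.2).card = 2 := by
    intro p hp
    rw [show ((AR F).filter fun r => (R r.1 r.2 : GL2 F → ℂ) = R p.1 p.2) = {p, (p.2, p.1)} from ?_,
      Finset.card_pair fun e => mem_AR.1 hp (congrArg Prod.fst e)]
    ext r
    simp only [Finset.mem_filter, Finset.mem_insert, Finset.mem_singleton, R_eq_R_iff,
      Prod.ext_iff, mem_AR]
    refine ⟨And.right, fun h => ⟨?_, h⟩⟩
    rcases h with ⟨h1, h2⟩ | ⟨h1, h2⟩ <;> rw [h1, h2]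
    · exact mem_AR.1 hp
    · exact Ne.symm (mem_AR.1 hp)
  have f2 : ∀ θ ∈ AT hc, ((AT hc).filter fun η => Pi' η = Pi' θ).card = 2 := by
    intro θ hθ
    rw [show ((AT hc).filter fun η => Pi' η = Pi' θ) = {θ, conjT hc θ} from ?_,
      Finset.card_pair (Ne.symm ((mem_AT hc).1 hθ))]
    ext η
    simp only [Finset.mem_filter, Finset.mem_insert, Finset.mem_singleton, Pi'_eq_Pi'_iff hc,
      mem_AT]
    refine ⟨And.right, fun h => ⟨?_, h⟩⟩
    rcases h with rfl | rfl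
    · exact (mem_AT hc).1 hθ
    · rw [conjT_conjT]; exact Ne.symm ((mem_AT hc).1 hθ)
  rw [L0, Finset.sum_union d3, Finset.sum_union d1, Finset.sum_union d2,
    Finset.sum_image (g := det1) (fun a _ b _ e => i1 e),
    Finset.sum_image (g := St) (fun a _ b _ e => i2 e),
    sum_eq_two_nsmul_sum_image (s := AR F) (f := fun p => R p.1 p.2) g f1,
    sum_eq_two_nsmul_sum_image (s := AT hc) (f := Pi') g f2]
  simp only [nsmul_add]
  abel

theorem irrFinset_eq (hc : NoEig (gm c)) : irrFinset (GL2 F) = L0 hc := by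
  refine CfsgLib.SL2C.irrFinset_eq_of_sum (fun χ h => isIrr_of_mem_L0 hc h) ?_
  have h := sum_L0 hc fun χ => dg1 χ ^ 2
  simp only [dg1, det1_apply_one, St_apply_one, R_apply_one, Pi'_apply_one hc, Finset.sum_const,
    Finset.card_univ, nsmul_eq_mul, Complex.add_re, Complex.sub_re, Complex.one_re,
    Complex.natCast_re] at h
  push_cast at h
  have hA : ((AR F).card : ℝ) = ((Fintype.card F : ℝ) - 1) * ((Fintype.card F : ℝ) - 2) := by
    have := congrArg Complex.re (cast_card_AR (F := F))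
    simpa using this
  have hT : ((AT hc).card : ℝ) = (Fintype.card F : ℝ) ^ 2 - Fintype.card F := by
    have := congrArg Complex.re (cast_card_AT hc)
    simpa [pow_two] using this
  have hD : (Fintype.card (Fˣ →* ℂˣ) : ℝ) = (Fintype.card F : ℝ) - 1 := by
    have := congrArg Complex.re (card_dual_units' (F := F))
    simpa using this
  have hG : (Nat.card (GL2 F) : ℝ) = (Fintype.card F : ℝ) * ((Fintype.card F : ℝ) - 1) ^ 2 *
      ((Fintype.card F : ℝ) + 1) := by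
    have := congrArg Complex.re (cast_card_GL2 (F := F))
    rw [Nat.card_eq_fintype_card]
    simpa [pow_two] using this
  rw [hA, hT, hD] at h
  rw [hG]
  simp only [dg1] at *
  linear_combination h / 2

theorem irr_cases (hc : NoEig (gm c)) {χ : GL2 F → ℂ} (hχ : Cfsg.IsIrrCharacter (GL2 F) χ) :
    ((∃ γ, χ = det1 γ) ∧ χ 1 = 1) ∨ ((∃ γ, χ = St γ) ∧ χ 1 = (Fintype.card F : ℂ)) ∨
    ((∃ α β, α ≠ β ∧ χ = R α β) ∧ χ 1 = (Fintype.card F : ℂ) + 1) ∨
    ((∃ θ, conjT hc θ ≠ θ ∧ χ = Pi' θ) ∧ χ 1 = (Fintype.card F : ℂ) - 1) := by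
  have hm := mem_irrFinset.2 hχ
  rw [irrFinset_eq hc] at hm
  rcases (mem_L0 hc).1 hm with ⟨γ, rfl⟩ | ⟨γ, rfl⟩ | ⟨α, β, hab, rfl⟩ | ⟨θ, hθ, rfl⟩
  · exact Or.inl ⟨⟨γ, rfl⟩, det1_apply_one γ⟩
  · exact Or.inr (Or.inl ⟨⟨γ, rfl⟩, St_apply_one γ⟩)
  · exact Or.inr (Or.inr (Or.inl ⟨⟨α, β, hab, rfl⟩, R_apply_one α β⟩))
  · exact Or.inr (Or.inr (Or.inr ⟨⟨θ, hθ, rfl⟩, Pi'_apply_one hc θ⟩))

theorem sum_irr (hc : NoEig (gm c)) {M : Type*} [AddCommMonoid M] (g : (GL2 F → ℂ) → M) :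
    2 • ∑ χ ∈ irrFinset (GL2 F), g χ =
      2 • ∑ γ : Fˣ →* ℂˣ, g (det1 γ) + 2 • ∑ γ : Fˣ →* ℂˣ, g (St γ) +
        ∑ p ∈ AR F, g (R p.1 p.2) + ∑ θ ∈ AT hc, g (Pi' θ) := by
  rw [irrFinset_eq hc, sum_L0 hc]

end CfsgLib.GL2C
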